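import Groth.Agent.H4DR.PCoh.Stage
import Mathlib.Algebra.Module.FinitePresentation
import Mathlib.RingTheory.Noetherian.Basic
import Mathlib.CategoryTheory.Triangulated.TStructure.TruncLTGE

/-!
# Pseudo-coherence in terms of cohomology modules
-/

set_option autoImplicit false

universe u

open CategoryTheory CategoryTheory.Limits Pretriangulated
open Groth.Agent.H16Derived

attribute [local instance] HasDerivedCategory.standard

namespace Groth.Agent.H4DR.PCoh

variable {R : Type u} [CommRing R]

/-- Vanishing from degree `b + 1` on, in the form used by the attaching lemmas. -/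
lemma vanish_succ {K : Dual.D R} {b : ℤ} (h : ∀ i, b + 1 ≤ i → Subsingleton (Dual.HD R K i)) :
    ∀ i, b < i → Subsingleton (Dual.HD R K i) := fun i hi => h i (by omega)

/-- `inD M` as a complex in degree zero. -/
noncomputable def inDIso (M : ModuleCat.{u} R) :
    Dual.inD R M ≅ DRing.toD ((HomologicalComplex.single (ModuleCat.{u} R) (ComplexShape.up ℤ) 0).obj M) :=
  (DerivedCategory.singleFunctorIsoCompQ (ModuleCat.{u} R) 0).app M

lemma subsingleton_HD_single (M : ModuleCat.{u} R) (n i : ℤ) (h : i ≠ n) :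
    Subsingleton (Dual.HD R (DRing.toD ((HomologicalComplex.single (ModuleCat.{u} R)
      (ComplexShape.up ℤ) n).obj M)) i) :=
  ModuleCat.subsingleton_of_isZero (IsZero.of_iso
    ((HomologicalComplex.exactAt_single_obj _ _ _ _ h).isZero_homology)
    ((DerivedCategory.homologyFunctorFactors (ModuleCat.{u} R) i).app _))

lemma subsingleton_HD_inD (M : ModuleCat.{u} R) (i : ℤ) (h : i ≠ 0) :
    Subsingleton (Dual.HD R (Dual.inD R M) i) :=
  haveI := subsingleton_HD_single M 0 i h
  (hEquiv i (inDIso M)).injective.subsingleton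

/-- `H^0(M[0]) = M`. -/
noncomputable def HDinD (M : ModuleCat.{u} R) : Dual.HD R (Dual.inD R M) 0 ≃ₗ[R] M :=
  hEquiv 0 (inDIso M) ≪≫ₗ
    ((DerivedCategory.homologyFunctorFactors (ModuleCat.{u} R) 0).app _ ≪≫
      HomologicalComplex.singleObjHomologySelfIso _ _ _).toLinearEquiv

/-- A single module in degree `n` is a shift of `M[0]`. -/
noncomputable def singleIso (M : ModuleCat.{u} R) (n : ℤ) :
    DRing.toD ((HomologicalComplex.single (ModuleCat.{u} R) (ComplexShape.up ℤ) n).obj M) ≅
      (Dual.inD R M)⟦-n⟧ :=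
  (DerivedCategory.Q.mapIso (((CochainComplex.singleFunctors (ModuleCat.{u} R)).shiftIso (-n) n 0
      (by omega)).app M)).symm ≪≫ (DerivedCategory.Q.commShiftIso (-n)).app _ ≪≫
    (shiftFunctor (Dual.D R) (-n)).mapIso (inDIso M).symm

lemma finite_of_exact {A B C : Type u} [AddCommGroup A] [Module R A] [AddCommGroup B] [Module R B]
    [AddCommGroup C] [Module R C] (f : A →ₗ[R] B) (g : B →ₗ[R] C) (h : Function.Exact f g)
    [Module.Finite R A] (hC : (LinearMap.range g).FG) : Module.Finite R B := by
  refine ⟨Submodule.fg_of_fg_map_of_fg_inf_ker g ?_ ?_⟩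
  · rwa [Submodule.map_top]
  · rw [top_inf_eq, h.linearMap_ker_eq, LinearMap.range_eq_map]
    exact Module.Finite.fg_top.map f

/-- The connecting map of an attaching triangle. -/
noncomputable def δA {n : ℕ} {b : ℤ} {K C : Dual.D R}
    (f : DRing.toD (freeAt (R := R) n b) ⟶ K) (g : K ⟶ C)
    (h : C ⟶ (DRing.toD (freeAt (R := R) n b))⟦(1 : ℤ)⟧) :
    Dual.HD R C (b - 1) →ₗ[R] Dual.HD R (DRing.toD (freeAt (R := R) n b)) b :=
  δl (Triangle.mk f g h) (b - 1) b (by omega)

/-- The `n = b - 1` stretch of the sequence of an attaching triangle. -/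
lemma attach_lemma {n : ℕ} {b : ℤ} {K C : Dual.D R}
    {f : DRing.toD (freeAt (R := R) n b) ⟶ K} {g : K ⟶ C}
    {h : C ⟶ (DRing.toD (freeAt (R := R) n b))⟦(1 : ℤ)⟧}
    (hT : Triangle.mk f g h ∈ (distTriang (Dual.D R))) :
    Function.Injective (hm (b - 1) g) ∧
      Function.Exact (hm (b - 1) g) (δA f g h) ∧
      LinearMap.range (δA f g h) = LinearMap.ker (hm b f) ∧
      ∀ i, i < b - 1 → Function.Bijective (hm i g) :=
  ⟨injective₂_of_subsingleton (Triangle.mk f g h) hT (b - 1) (subsingleton_HD_freeAt n b _ (by omega)),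
    ex₃ (Triangle.mk f g h) hT (b - 1) b (by omega),
    ((ex₁ (Triangle.mk f g h) hT (b - 1) b (by omega)).linearMap_ker_eq).symm,
    fun i hi => ⟨injective₂_of_subsingleton (Triangle.mk f g h) hT i
        (subsingleton_HD_freeAt n b _ (by omega)),
      surjective₂_of_subsingleton (Triangle.mk f g h) hT i (i + 1) rfl
        (subsingleton_HD_freeAt n b _ (by omega))⟩⟩

/-- Vanishing above `m + 1`, finitely presented `H^(m+1)` and finite `H^m`. -/
theorem pc_of_fp {m : ℤ} {K : Dual.D R} (hv : ∀ i, m + 1 < i → Subsingleton (Dual.HD R K i))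
    (h₁ : Module.FinitePresentation R (Dual.HD R K (m + 1)))
    (h₀ : Module.Finite R (Dual.HD R K m)) : DRing.IsPseudoCoherent R m K := by
  obtain ⟨n, C, f, g, h, hT, hf, hC, hpc⟩ := exists_attach K (m + 1) hv
  refine (hpc m).2 ?_
  obtain ⟨-, hex, hran, -⟩ := attach_lemma hT
  haveI := finite_HD_freeAt (R := R) n (m + 1) (m + 1)
  have hfg : (LinearMap.ker (hm (m + 1) f)).FG := Module.FinitePresentation.fg_ker _ hf
  haveI : Module.Finite R (Dual.HD R K (m + 1 - 1)) := by rwa [add_sub_cancel_right]
  haveI : Module.Finite R (Dual.HD R C (m + 1 - 1)) :=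
    finite_of_exact _ _ hex (by rwa [hran])
  haveI : Module.Finite R (Dual.HD R C m) := by
    have := (inferInstance : Module.Finite R (Dual.HD R C (m + 1 - 1)))
    rwa [add_sub_cancel_right] at this
  obtain ⟨n', C', f', g', h', -, -, hC', hpc'⟩ := exists_attach C m fun i hi => hC i (by omega)
  exact (hpc' m).2 (pc_of_vanish fun i hi => hC' i hi)

lemma pc_of_finite_top {m : ℤ} {K : Dual.D R} (hv : ∀ i, m < i → Subsingleton (Dual.HD R K i))
    (h₀ : Module.Finite R (Dual.HD R K m)) : DRing.IsPseudoCoherent R m K := by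
  obtain ⟨n', C', f', g', h', -, -, hC', hpc'⟩ := exists_attach K m hv
  exact (hpc' m).2 (pc_of_vanish fun i hi => hC' i hi)

/-- Modules: `0`- and `(-1)`-pseudo-coherence. -/
theorem pcModule_iff (M : ModuleCat.{u} R) :
    (DRing.IsPseudoCoherent R 0 (Dual.inD R M) ↔ Module.Finite R M) ∧
      (DRing.IsPseudoCoherent R (-1) (Dual.inD R M) ↔ Module.FinitePresentation R M) := by
  have hv : ∀ i : ℤ, 0 < i → Subsingleton (Dual.HD R (Dual.inD R M) i) :=
    fun i hi => subsingleton_HD_inD M i (by omega)
  refine ⟨⟨fun h => ?_, fun h => ?_⟩, fun h => ?_, fun h => ?_⟩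
  · haveI := finite_top h le_rfl hv
    exact Module.Finite.equiv (HDinD M)
  · exact pc_of_finite_top hv (Module.Finite.equiv (HDinD M).symm)
  · haveI : Module.Finite R (Dual.HD R (Dual.inD R M) 0) := finite_top h (by omega) hv
    obtain ⟨n, C, f, g, h', hT, hf, hC, hpc⟩ := exists_attach _ 0 hv
    haveI := finite_top ((hpc _).1 h) (b := 0 - 1) (by omega) fun i hi => hC i (by omega)
    obtain ⟨-, -, hran, -⟩ := attach_lemma hT
    let q : (Fin n → R) →ₗ[R] M := (HDinD M).toLinearMap ∘ₗ hm 0 f ∘ₗ (HDfreeAt n 0).symm.toLinearMap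
    refine Module.finitePresentation_of_surjective q
      ((HDinD M).surjective.comp (hf.comp (HDfreeAt n 0).symm.surjective)) ?_
    have : LinearMap.ker q = (LinearMap.ker (hm 0 f)).map (HDfreeAt n 0).toLinearMap := by
      ext v
      rw [Submodule.mem_map_equiv]
      simp [q]
      exact LinearMap.mem_ker.symm
    rw [this, ← hran, LinearMap.range_eq_map]
    exact (Module.Finite.fg_top.map _).map _
  · refine pc_of_fp (fun i hi => subsingleton_HD_inD M i (by omega)) ?_ ?_
    · exact Module.FinitePresentation.of_equiv (HDinD M).symm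
    · haveI := subsingleton_HD_inD M (-1) (by omega)
      infer_instance

/-- A bounded above object with pseudo-coherent cohomology. -/
theorem pc_of_homology : ∀ (N : ℕ) {m : ℤ} {K : Dual.D R},
    (∀ i, m + N ≤ i → Subsingleton (Dual.HD R K i)) →
    (∀ i, DRing.IsPseudoCoherentModule R (m - i) (Dual.HD R K i)) → DRing.IsPseudoCoherent R m K
  | 0, m, K, hb, _ => pc_of_vanish fun i hi => hb i (by omega)
  | N + 1, m, K, hb, h => by
    let b : ℤ := m + N
    let T := (DerivedCategory.TStructure.t.triangleLTGE b).obj K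
    have hT : T ∈ distTriang _ := DerivedCategory.TStructure.t.triangleLTGE_distinguished b K
    haveI : DerivedCategory.IsGE T.obj₃ b :=
      inferInstanceAs (DerivedCategory.TStructure.t.IsGE _ b)
    haveI : DerivedCategory.IsLE T.obj₁ (b - 1) :=
      DerivedCategory.TStructure.t.isLE_truncLT_obj K b (b - 1) (by omega)
    have h₁ : ∀ i, b ≤ i → Subsingleton (Dual.HD R T.obj₁ i) := fun i hi =>
      ModuleCat.subsingleton_of_isZero (DerivedCategory.isZero_of_isLE T.obj₁ (b - 1) i (by omega))
    have h₂ : ∀ i, b < i → Subsingleton (Dual.HD R T.obj₂ i) := fun i hi => hb i (by omega)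
    have hlow : ∀ i, i < b → Subsingleton (Dual.HD R T.obj₃ i) := fun i hi =>
      ModuleCat.subsingleton_of_isZero (DerivedCategory.isZero_of_isGE T.obj₃ b i hi)
    have hhigh : ∀ i, b < i → Subsingleton (Dual.HD R T.obj₃ i) := fun i hi =>
      subsingleton₃ T hT i (i + 1) rfl (h₁ _ (by omega)) (h₂ i hi)
    haveI : DerivedCategory.IsLE T.obj₃ b := (DerivedCategory.isLE_iff _ b).2 fun i hi =>
      ModuleCat.isZero_of_iff_subsingleton.2 (hhigh i hi)
    obtain ⟨Y, ⟨e⟩⟩ := DerivedCategory.exists_iso_singleFunctor_obj_of_isGE_of_isLE T.obj₃ b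
    let e' : T.obj₃ ≅ DRing.toD ((HomologicalComplex.single (ModuleCat.{u} R) (ComplexShape.up ℤ) b).obj Y) :=
      e ≪≫ (DerivedCategory.singleFunctorIsoCompQ (ModuleCat.{u} R) b).app Y
    let eY : Dual.HD R K b ≃ₗ[R] Y :=
      (LinearEquiv.ofBijective (hm b T.mor₂)
        ⟨injective₂_of_subsingleton T hT b (h₁ b le_rfl),
          surjective₂_of_subsingleton T hT b (b + 1) rfl (h₁ _ (by omega))⟩) ≪≫ₗ hEquiv b e' ≪≫ₗ
        ((DerivedCategory.homologyFunctorFactors (ModuleCat.{u} R) b).app _ ≪≫
          HomologicalComplex.singleObjHomologySelfIso _ _ _).toLinearEquiv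
    have hY : DRing.IsPseudoCoherent R (m - b) (Dual.inD R Y) :=
      pc_of_iso ((DerivedCategory.singleFunctor (ModuleCat.{u} R) 0).mapIso eY.toModuleIso) (h b)
    refine pc_obj₂ T hT (pc_of_homology N (fun i hi => h₁ i hi) fun i => ?_) ?_
    · by_cases hi : b ≤ i
      · have : IsZero (Dual.inD R (Dual.HD R T.obj₁ i)) :=
          (DerivedCategory.singleFunctor (ModuleCat.{u} R) 0).map_isZero
            (ModuleCat.isZero_of_iff_subsingleton.2 (h₁ i hi))
        exact pc_of_vanish fun j _ => ModuleCat.subsingleton_of_isZero ((H R j).map_isZero this)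
      · refine pc_of_iso ((DerivedCategory.singleFunctor (ModuleCat.{u} R) 0).mapIso
          (LinearEquiv.ofBijective (hm i T.mor₁) ⟨?_, ?_⟩).toModuleIso.symm) (h i)
        · exact injective₁_of_subsingleton T hT (i - 1) i (by omega) (hlow _ (by omega))
        · exact surjective₁_of_subsingleton T hT i (hlow i (by omega))
    · exact pc_of_iso (singleIso Y b ≪≫ Iso.refl _).symm (pc_shift (-b) (by omega) hY) |>
        fun h' => pc_of_iso e'.symm h'

/-- A bounded above complex with pseudo-coherent terms. -/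
theorem pc_of_terms : ∀ (N : ℕ) {m : ℤ} {K : DRing.Cx R},
    (∀ i, m + N ≤ i → IsZero (K.X i)) →
    (∀ i, DRing.IsPseudoCoherentModule R (m - i) (K.X i)) → DRing.IsPseudoCoherent R m (DRing.toD K)
  | 0, m, K, hb, _ => pc_of_vanish fun i hi => ModuleCat.subsingleton_of_isZero
      (IsZero.of_iso ((HomologicalComplex.exactAt_iff _ _).2
        (ShortComplex.exact_of_isZero_X₂ _ (hb i (by omega)))).isZero_homology
        ((DerivedCategory.homologyFunctorFactors (ModuleCat.{u} R) i).app _))
  | N + 1, m, K, hb, h => by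
    let b : ℤ := m + N
    have hT := DerivedCategory.triangleOfSES_distinguished (KFlat.Brutal.shortExact K b)
    refine pc_obj₂ _ hT ?_ ?_
    · have hz : ∀ i, i ≠ b → IsZero ((KFlat.Brutal.geq K b).X i) := fun i hi => by
        by_cases hbi : b ≤ i
        · have := KFlat.Brutal.isIso_ι_f K b hbi
          exact (hb i (by omega)).of_iso (asIso ((KFlat.Brutal.ι K b).f i))
        · exact KFlat.Brutal.isZero_geq K _ (by omega)
      haveI : (KFlat.Brutal.geq K b).IsStrictlyGE b :=
        (CochainComplex.isStrictlyGE_iff _ b).2 fun q hq => hz q (by omega)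
      haveI : (KFlat.Brutal.geq K b).IsStrictlyLE b :=
        (CochainComplex.isStrictlyLE_iff _ b).2 fun q hq => hz q (by omega)
      obtain ⟨Y, ⟨e⟩⟩ := CochainComplex.exists_iso_single (KFlat.Brutal.geq K b) b
      have := KFlat.Brutal.isIso_ι_f K b (le_refl b)
      let eY : K.X b ≅ Y := (asIso ((KFlat.Brutal.ι K b).f b)).symm ≪≫
        (HomologicalComplex.eval _ _ b).mapIso e ≪≫
        HomologicalComplex.singleObjXSelf (ComplexShape.up ℤ) b Y
      have hY : DRing.IsPseudoCoherent R (m - b) (Dual.inD R Y) :=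
        pc_of_iso ((DerivedCategory.singleFunctor (ModuleCat.{u} R) 0).mapIso eY) (h b)
      exact pc_of_iso (DerivedCategory.Q.mapIso e).symm
        (pc_of_iso (singleIso Y b).symm (pc_shift (-b) (by omega) hY))
    · refine pc_of_terms N (fun i hi => ?_) fun i => ?_
      · exact KFlat.Brutal.isZero_cokernel K _ (show b ≤ i by omega)
      · by_cases hi : i < b
        · have := KFlat.Brutal.isIso_cokernel_π K b hi
          exact pc_of_iso ((DerivedCategory.singleFunctor (ModuleCat.{u} R) 0).mapIso
            (asIso ((cokernel.π (KFlat.Brutal.ι K b)).f i))) (h i)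
        · have : IsZero (Dual.inD R ((cokernel (KFlat.Brutal.ι K b)).X i)) :=
            (DerivedCategory.singleFunctor (ModuleCat.{u} R) 0).map_isZero
              (KFlat.Brutal.isZero_cokernel K _ (by omega))
          exact pc_of_vanish fun j _ => ModuleCat.subsingleton_of_isZero ((H R j).map_isZero this)

/-- Pseudo-coherence over a Noetherian ring. -/
theorem pc_of_finite [IsNoetherianRing R] : ∀ (N : ℕ) {m : ℤ} {K : Dual.D R},
    (∀ i, m + N ≤ i → Subsingleton (Dual.HD R K i)) →
    (∀ i, m ≤ i → Module.Finite R (Dual.HD R K i)) → DRing.IsPseudoCoherent R m K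
  | 0, m, K, hb, _ => pc_of_vanish fun i hi => hb i (by omega)
  | N + 1, m, K, hb, h => by
    haveI := h (m + N) (by omega)
    obtain ⟨n, C, f, g, h', hT, hf, hC, hpc⟩ := exists_attach K (m + N) fun i hi => hb i (by omega)
    refine (hpc m).2 (pc_of_finite N hC fun i hi => ?_)
    obtain ⟨-, hex, hran, hbij⟩ := attach_lemma hT
    haveI := finite_HD_freeAt (R := R) n (m + N) (m + N)
    haveI := h i hi
    rcases lt_trichotomy i (m + N - 1) with hlt | rfl | hgt
    · exact Module.Finite.equiv (LinearEquiv.ofBijective _ (hbij i hlt))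
    · exact finite_of_exact _ _ hex (IsNoetherian.noetherian _)
    · haveI := hC i (by omega)
      infer_instance

theorem finite_of_pc [IsNoetherianRing R] {m : ℤ} {K : Dual.D R}
    (hK : DRing.IsPseudoCoherent R m K) (i : ℤ) (hi : m ≤ i) : Module.Finite R (Dual.HD R K i) := by
  obtain ⟨E, α, ⟨a, c, hE, hF⟩, hα⟩ := pc_iff.1 hK
  haveI := (hF i).1
  haveI hker : Module.Finite R (LinearMap.ker (E.d i (i + 1)).hom) :=
    Module.Finite.iff_fg.2 (IsNoetherian.noetherian _)
  have hH := finite_homology_of_ker E i hker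
  haveI : Module.Finite R (Dual.HD R (DRing.toD E) i) :=
    @Module.Finite.equiv _ _ _ _ _ _ _ _ hH
      ((DerivedCategory.homologyFunctorFactors (ModuleCat.{u} R) i).app E).toLinearEquiv.symm
  exact Module.Finite.of_surjective _ (hα.1 i hi)

/-! ### Coherent rings -/

section Coherent

variable (hR : ∀ I : Ideal R, I.FG → Module.FinitePresentation R I)
include hR

lemma fp_of_fg_pi : ∀ (n : ℕ) (N : Submodule R (Fin n → R)), N.FG → Module.FinitePresentation R N
  | 0, N, _ => inferInstance
  | n + 1, N, hN => by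
    haveI : Module.Finite R N := Module.Finite.iff_fg.2 hN
    let p : N →ₗ[R] R := (LinearMap.proj 0).comp N.subtype
    haveI : Module.FinitePresentation R (LinearMap.range p) := hR _ (by
      rw [LinearMap.range_eq_map]; exact Module.Finite.fg_top.map p)
    have hkfg : (LinearMap.ker p.rangeRestrict).FG :=
      Module.FinitePresentation.fg_ker _ p.surjective_rangeRestrict
    haveI : Module.FinitePresentation R (LinearMap.ker p.rangeRestrict) := by
      let s : (Fin (n + 1) → R) →ₗ[R] (Fin n → R) := LinearMap.funLeft R R Fin.succ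
      let t : LinearMap.ker p.rangeRestrict →ₗ[R] (Fin n → R) :=
        s.comp (N.subtype.comp (LinearMap.ker p.rangeRestrict).subtype)
      have ht : Function.Injective t := by
        intro x y hxy
        have hz : ∀ z : LinearMap.ker p.rangeRestrict, ((z : N) : Fin (n + 1) → R) 0 = 0 := fun z =>
          congrArg Subtype.val (LinearMap.mem_ker.1 z.2)
        refine Subtype.ext (Subtype.ext (funext (Fin.cases ?_ fun i => ?_)))
        · rw [hz, hz]
        · exact congrFun hxy i
      haveI : Module.Finite R (LinearMap.ker p.rangeRestrict) := Module.Finite.iff_fg.2 hkfg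
      haveI := fp_of_fg_pi n (LinearMap.range t) (by
        rw [LinearMap.range_eq_map]; exact Module.Finite.fg_top.map t)
      exact Module.FinitePresentation.of_equiv (M := LinearMap.range t)
        (N := LinearMap.ker p.rangeRestrict) (LinearEquiv.ofInjective t ht).symm
    exact Module.finitePresentation_of_ker _ p.surjective_rangeRestrict

lemma fp_of_fg {M : Type u} [AddCommGroup M] [Module R M] [Module.FinitePresentation R M]
    (N : Submodule R M) (hN : N.FG) : Module.FinitePresentation R N := by
  obtain ⟨n, q, hq⟩ := Module.Finite.exists_fin' R M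
  have hk : (LinearMap.ker q).FG := Module.FinitePresentation.fg_ker _ hq
  let N' := N.comap q
  have hN' : N'.FG := by
    refine Submodule.fg_of_fg_map_of_fg_inf_ker q ?_ ?_
    · rw [Submodule.map_comap_eq, LinearMap.range_eq_top.2 hq, top_inf_eq]; exact hN
    · rw [inf_eq_right.2 (fun x hx => show q x ∈ N by rw [LinearMap.mem_ker.1 hx]; exact N.zero_mem)]
      exact hk
  haveI := fp_of_fg_pi hR n N' hN'
  let q' : N' →ₗ[R] N := (q.comp N'.subtype).codRestrict N fun x => x.2
  refine Module.finitePresentation_of_surjective q' (fun ⟨y, hy⟩ => ?_) ?_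
  · obtain ⟨x, rfl⟩ := hq y
    exact ⟨⟨x, hy⟩, rfl⟩
  · have : LinearMap.ker q' = (LinearMap.ker q).comap N'.subtype := by
      ext x
      rw [LinearMap.mem_ker, Submodule.mem_comap, LinearMap.mem_ker]
      exact ⟨fun h => congrArg Subtype.val h, fun h => Subtype.ext h⟩
    rw [this]
    haveI : Module.Finite R (LinearMap.ker q) := Module.Finite.iff_fg.2 hk
    rw [← Module.Finite.iff_fg]
    exact Module.Finite.equiv (Submodule.comapSubtypeEquivOfLe (p := LinearMap.ker q) (q := N')
      fun x hx => show q x ∈ N by rw [LinearMap.mem_ker.1 hx]; exact N.zero_mem).symm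

lemma fp_ker {M M' : Type u} [AddCommGroup M] [Module R M] [AddCommGroup M'] [Module R M']
    [Module.FinitePresentation R M] [Module.FinitePresentation R M'] (φ : M →ₗ[R] M') :
    Module.FinitePresentation R (LinearMap.ker φ) := by
  haveI := fp_of_fg hR (LinearMap.range φ)
    (by rw [LinearMap.range_eq_map]; exact Module.Finite.fg_top.map φ)
  refine fp_of_fg hR _ ?_
  rw [← φ.ker_rangeRestrict]
  exact Module.FinitePresentation.fg_ker _ φ.surjective_rangeRestrict

theorem finite_fp_of_pc {m : ℤ} {K : Dual.D R} (hK : DRing.IsPseudoCoherent R m K) :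
    Module.Finite R (Dual.HD R K m) ∧
      ∀ i, m < i → Module.FinitePresentation R (Dual.HD R K i) := by
  obtain ⟨E, α, ⟨a, c, hE, hF⟩, hα⟩ := pc_iff.1 hK
  have hE' : ∀ i, Module.FinitePresentation R (Dual.HD R (DRing.toD E) i) := fun i => by
    haveI : ∀ j, Module.FinitePresentation R (E.X j) := fun j =>
      haveI := (hF j).1
      haveI := (hF j).2
      Module.finitePresentation_of_projective _ _
    let S := E.sc' (i - 1) i (i + 1)
    haveI : Module.FinitePresentation R (LinearMap.ker S.g.hom) := fp_ker hR (E.d i (i + 1)).hom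
    haveI : Module.Finite R S.X₁ := (hF (i - 1)).1
    haveI : Module.FinitePresentation R
        (LinearMap.ker S.g.hom ⧸ LinearMap.range S.moduleCatToCycles) := by
      refine Module.finitePresentation_of_surjective _ (Submodule.mkQ_surjective _) ?_
      rw [Submodule.ker_mkQ, LinearMap.range_eq_map]
      exact Module.Finite.fg_top.map _
    let e : E.homology i ≅ S.moduleCatLeftHomologyData.H :=
      ShortComplex.homologyMapIso (E.isoSc' (i - 1) i (i + 1) (by simp) (by simp)) ≪≫
        S.moduleCatLeftHomologyData.homologyIso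
    exact @Module.FinitePresentation.of_equiv R _ _ _ _ _ _ _
      (((DerivedCategory.homologyFunctorFactors (ModuleCat.{u} R) i).app E) ≪≫ e).toLinearEquiv.symm
      this
  refine ⟨?_, fun i hi => ?_⟩
  · haveI := hE' m
    exact Module.Finite.of_surjective _ (hα.1 m le_rfl)
  · haveI := hE' i
    exact Module.FinitePresentation.of_equiv (LinearEquiv.ofBijective (hm i α) ⟨hα.2 i hi, hα.1 i hi.le⟩)

theorem pc_of_coherent : ∀ (N : ℕ) {m : ℤ} {K : Dual.D R},
    (∀ i, m + N ≤ i → Subsingleton (Dual.HD R K i)) → Module.Finite R (Dual.HD R K m) →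
    (∀ i, m < i → Module.FinitePresentation R (Dual.HD R K i)) → DRing.IsPseudoCoherent R m K
  | 0, m, K, hb, _, _ => pc_of_vanish fun i hi => hb i (by omega)
  | 1, m, K, hb, h₀, _ => pc_of_finite_top (fun i hi => hb i (by omega)) h₀
  | N + 2, m, K, hb, h₀, h => by
    haveI := h (m + (N + 1 : ℕ)) (by omega)
    obtain ⟨n, C, f, g, h', hT, hf, hC, hpc⟩ :=
      exists_attach K (m + (N + 1 : ℕ)) fun i hi => hb i (by omega)
    obtain ⟨hinj, hex, hran, hbij⟩ := attach_lemma hT
    haveI := finite_HD_freeAt (R := R) n (m + (N + 1 : ℕ)) (m + (N + 1 : ℕ))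
    haveI : Module.FinitePresentation R
        (Dual.HD R (DRing.toD (freeAt (R := R) n (m + (N + 1 : ℕ)))) (m + (N + 1 : ℕ))) :=
      Module.FinitePresentation.of_equiv (HDfreeAt n _).symm
    have hkfg : (LinearMap.ker (hm (m + (N + 1 : ℕ)) f)).FG := Module.FinitePresentation.fg_ker _ hf
    have hfin : ∀ i, m ≤ i → i < m + (N + 1 : ℕ) → Module.Finite R (Dual.HD R C i) := by
      intro i hi hi'
      haveI : Module.Finite R (Dual.HD R K i) := by
        rcases hi.lt_or_eq with hi | rfl
        · haveI := h i hi; infer_instance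
        · exact h₀
      rcases (show i ≤ m + (N + 1 : ℕ) - 1 by omega).lt_or_eq with hlt | rfl
      · exact Module.Finite.equiv (LinearEquiv.ofBijective _ (hbij i hlt))
      · exact finite_of_exact _ _ hex (by rwa [hran])
    refine (hpc m).2 (pc_of_coherent (N + 1) hC (hfin m le_rfl (by omega)) fun i hi => ?_)
    rcases lt_trichotomy i (m + (N + 1 : ℕ) - 1) with hlt | rfl | hgt
    · haveI := h i hi
      exact Module.FinitePresentation.of_equiv (LinearEquiv.ofBijective _ (hbij i hlt))
    · haveI := h _ hi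
      haveI := fp_of_fg hR _ hkfg
      set δ := δA f g h'
      haveI : Module.FinitePresentation R (LinearMap.range δ) :=
        Module.FinitePresentation.of_equiv (LinearEquiv.ofEq _ _ hran).symm
      haveI : Module.FinitePresentation R (LinearMap.ker δ.rangeRestrict) :=
        Module.FinitePresentation.of_equiv ((LinearEquiv.ofInjective _ hinj).trans
          (LinearEquiv.ofEq _ _ (by rw [δ.ker_rangeRestrict]; exact hex.linearMap_ker_eq.symm)))
      haveI : Module.Finite R (Dual.HD R C (m + (N + 1 : ℕ) - 1)) :=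
        hfin _ (by omega) (by omega)
      exact Module.finitePresentation_of_ker _ δ.surjective_rangeRestrict
    · haveI := hC i (by omega)
      infer_instance

end Coherent

end Groth.Agent.H4DR.PCoh
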