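import Groth.Agent.H4DR.PCoh.ExactF
import Mathlib.Algebra.Category.ModuleCat.Descent
import Mathlib.RingTheory.Finiteness.Descent
import Groth.Prelude.Def_DDual2

/-!
# Pseudo-coherence and flat extension of scalars
-/

set_option autoImplicit false

universe u

open CategoryTheory CategoryTheory.Limits Pretriangulated

attribute [local instance] HasDerivedCategory.standard

namespace Groth.Agent.H4DR.PCoh

variable {A B : Type u} [CommRing A] [CommRing B] (φ : A →+* B)

lemma hfree_extend (n : ℕ) (j : ℤ) : DRing.IsPseudoCoherentModule B j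
    ((ModuleCat.extendScalars.{u, u, u} φ).obj (ModuleCat.of A (Fin n → A))) := by
  letI := φ.toAlgebra
  let e : ModuleCat.of B (Fin n → B) ≅
      (ModuleCat.extendScalars.{u, u, u} φ).obj (ModuleCat.of A (Fin n → A)) :=
    (TensorProduct.piScalarRight A B B (Fin n)).toModuleIso.symm
  exact pc_of_iso ((DerivedCategory.singleFunctor (ModuleCat.{u} B) 0).mapIso e)
    (pc_of_iso (inDIso (ModuleCat.of B (Fin n → B))).symm (pc_toD_of_isFFCx (isFFCx_freeAt n 0) j))

theorem pc_extend_descends (hφ : φ.FaithfullyFlat) {m : ℤ} {K : DRing.Cx A}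
    (h : DRing.IsPseudoCoherent B m (DRing.toD
      (((ModuleCat.extendScalars.{u, u, u} φ).mapHomologicalComplex (ComplexShape.up ℤ)).obj K))) :
    DRing.IsPseudoCoherent A m (DRing.toD K) := by
  let F := ModuleCat.extendScalars.{u, u, u} φ
  haveI : PreservesFiniteLimits F := ModuleCat.preservesFiniteLimits_extendScalars_of_flat hφ.flat
  have h' := pc_of_iso (F.mapDerivedCategoryFactors.app K).symm h
  obtain ⟨N, hN⟩ := bounded_of_pc' h'
  refine pc_of_map F (hfree_extend φ) (fun M hM => ?_) (fun M hM => ?_) N hN h'
  · letI := φ.toAlgebra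
    haveI : Module.FaithfullyFlat A B := hφ
    haveI : Module.Finite B (TensorProduct A B M) := hM
    exact Module.Finite.of_finite_tensorProduct_of_faithfullyFlat B
  · letI := φ.toAlgebra
    haveI : Module.FaithfullyFlat A B := hφ
    haveI : Subsingleton (TensorProduct A B M) := hM
    exact Module.FaithfullyFlat.lTensor_reflects_triviality A B M

theorem pcModule_extend (hφ : φ.Flat) {m : ℤ} (M : Type u) [AddCommGroup M] [Module A M]
    (h : DRing.IsPseudoCoherentModule A m M) :
    letI := φ.toAlgebra
    DRing.IsPseudoCoherentModule B m (TensorProduct A B M) := by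
  let F := ModuleCat.extendScalars.{u, u, u} φ
  haveI : PreservesFiniteLimits F := ModuleCat.preservesFiniteLimits_extendScalars_of_flat hφ
  exact pc_of_iso ((F.mapDerivedCategorySingleFunctor 0).app (ModuleCat.of A M))
    (pc_map F (hfree_extend φ) h)

end Groth.Agent.H4DR.PCoh
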