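import Groth.Agent.H4DR.PCoh.Basic
import Mathlib.Algebra.Homology.SingleHomology
import Mathlib.Algebra.Homology.DerivedCategory.SingleTriangle
import Mathlib.RingTheory.Finiteness.Finsupp

/-!
# Attaching a finite free module at the top cohomology
-/

set_option autoImplicit false

universe u

open CategoryTheory CategoryTheory.Limits Pretriangulated
open Groth.Agent.H16Derived
open scoped ZeroObject

attribute [local instance] HasDerivedCategory.standard

namespace Groth.Agent.H4DR.PCoh

variable {R : Type u} [CommRing R]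

/-- `R^n` in degree `b`. -/
noncomputable abbrev freeAt (n : ℕ) (b : ℤ) : DRing.Cx R :=
  (HomologicalComplex.single (ModuleCat.{u} R) (ComplexShape.up ℤ) b).obj
    (ModuleCat.of R (Fin n → R))

lemma isFFCx_freeAt (n : ℕ) (b : ℤ) : IsFFCx (freeAt (R := R) n b) := by
  refine ⟨b, b, fun i hi => HomologicalComplex.isZero_single_obj_X _ _ _ _ (by omega), fun i => ?_⟩
  by_cases h : i = b
  · subst h
    exact finiteFree_of_iso (HomologicalComplex.singleObjXSelf _ _ _).symm
      ⟨inferInstance, inferInstance⟩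
  · exact finiteFree_of_isZero (HomologicalComplex.isZero_single_obj_X _ _ _ _ h)

lemma subsingleton_HD_freeAt (n : ℕ) (b i : ℤ) (h : i ≠ b) :
    Subsingleton (Dual.HD R (DRing.toD (freeAt (R := R) n b)) i) :=
  ModuleCat.subsingleton_of_isZero (IsZero.of_iso
    ((HomologicalComplex.exactAt_single_obj _ _ _ _ h).isZero_homology)
    ((DerivedCategory.homologyFunctorFactors (ModuleCat.{u} R) i).app _))

/-- `H^b` of `R^n[-b]`. -/
noncomputable def HDfreeAt (n : ℕ) (b : ℤ) :
    Dual.HD R (DRing.toD (freeAt (R := R) n b)) b ≃ₗ[R] (Fin n → R) :=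
  ((DerivedCategory.homologyFunctorFactors (ModuleCat.{u} R) b).app _ ≪≫
    HomologicalComplex.singleObjHomologySelfIso _ _ _).toLinearEquiv

lemma finite_HD_freeAt (n : ℕ) (b i : ℤ) :
    Module.Finite R (Dual.HD R (DRing.toD (freeAt (R := R) n b)) i) := by
  by_cases h : i = b
  · subst h
    exact Module.Finite.equiv (HDfreeAt n i).symm
  · haveI := subsingleton_HD_freeAt (R := R) n b i h
    infer_instance

/-- Finitely many classes of degree `b` are the image of a map from `R^n[-b]`. -/
lemma exists_map_freeAt (K : Dual.D R) (b : ℤ) [Module.Finite R (Dual.HD R K b)] :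
    ∃ (n : ℕ) (f : DRing.toD (freeAt (R := R) n b) ⟶ K), Function.Surjective (hm b f) := by
  let L := DerivedCategory.Q.objPreimage K
  let e : DerivedCategory.Q.obj L ≅ K := DerivedCategory.Q.objObjPreimageIso K
  haveI : Module.Finite R (L.homology b) :=
    Module.Finite.equiv (hEquiv b e.symm ≪≫ₗ
      ((DerivedCategory.homologyFunctorFactors (ModuleCat.{u} R) b).app L).toLinearEquiv)
  obtain ⟨n, g, hg⟩ := Module.Finite.exists_fin' R (L.homology b)
  have hπ : Function.Surjective (L.homologyπ b).hom :=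
    (ModuleCat.epi_iff_surjective _).1 inferInstance
  obtain ⟨p, hp⟩ := Module.projective_lifting_property (L.homologyπ b).hom g hπ
  let f : freeAt (R := R) n b ⟶ L :=
    HomologicalComplex.mkHomFromSingle (ModuleCat.ofHom p ≫ L.iCycles b)
      (fun k _ => by rw [Category.assoc, HomologicalComplex.iCycles_d, comp_zero])
  have hcyc : (HomologicalComplex.singleObjCyclesSelfIso (ComplexShape.up ℤ) b
      (ModuleCat.of R (Fin n → R))).inv ≫ HomologicalComplex.cyclesMap f b = ModuleCat.ofHom p := by
    rw [← cancel_mono (L.iCycles b), Category.assoc, HomologicalComplex.cyclesMap_i]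
    rw [← Category.assoc, HomologicalComplex.singleObjCyclesSelfIso_inv_iCycles]
    simp [f, HomologicalComplex.mkHomFromSingle_f]
  have hsurj : Function.Surjective (HomologicalComplex.homologyMap f b).hom := by
    intro x
    obtain ⟨v, hv⟩ := hg x
    refine ⟨((HomologicalComplex.singleObjCyclesSelfIso (ComplexShape.up ℤ) b
      (ModuleCat.of R (Fin n → R))).inv ≫ (freeAt (R := R) n b).homologyπ b).hom v, ?_⟩
    rw [← ConcreteCategory.comp_apply, Category.assoc, HomologicalComplex.homologyπ_naturality,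
      ← Category.assoc, hcyc, ConcreteCategory.comp_apply]
    exact (LinearMap.congr_fun hp v).trans hv
  refine ⟨n, DerivedCategory.Q.map f ≫ e.hom, ?_⟩
  rw [hm_comp, LinearMap.coe_comp]
  refine (bijective_hm_of_isIso b e.hom).2.comp fun x => ?_
  let η := DerivedCategory.homologyFunctorFactors (ModuleCat.{u} R) b
  obtain ⟨y, hy⟩ := hsurj ((η.hom.app L).hom x)
  refine ⟨(η.inv.app _).hom y, ((η.app L).toLinearEquiv).injective ?_⟩
  have e2 := congr($(η.hom.naturality f).hom ((η.inv.app _).hom y))
  have e3 : (η.hom.app (freeAt (R := R) n b)).hom ((η.inv.app (freeAt (R := R) n b)).hom y) = y :=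
    congr($((η.app (freeAt (R := R) n b)).inv_hom_id).hom y)
  refine e2.trans ?_
  show (HomologicalComplex.homologyMap f b).hom ((η.hom.app (freeAt (R := R) n b)).hom
    ((η.inv.app (freeAt (R := R) n b)).hom y)) = _
  rw [e3]
  exact hy

/-- Top cycles of a bounded complex of finite projective modules which is exact above `b`. -/
lemma finite_ker_of_exact (E : DRing.Cx R) (b c : ℤ) (hc : ∀ i, c < i → IsZero (E.X i))
    (hE : DRing.TermwiseFiniteFree E) (hex : ∀ i, b < i → E.ExactAt i) :
    Module.Finite R (LinearMap.ker (E.d b (b + 1)).hom) ∧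
      ∀ (k : ℕ) (i : ℤ), b ≤ i → c ≤ i + k → Module.Projective R (LinearMap.ker (E.d i (i + 1)).hom) ∧
        Module.Finite R (LinearMap.ker (E.d i (i + 1)).hom) := by
  have key : ∀ (k : ℕ) (i : ℤ), b ≤ i → c ≤ i + k →
      Module.Projective R (LinearMap.ker (E.d i (i + 1)).hom) ∧
        Module.Finite R (LinearMap.ker (E.d i (i + 1)).hom) := by
    intro k
    induction k with
    | zero =>
      intro i _ hi
      have htop : LinearMap.ker (E.d i (i + 1)).hom = ⊤ := by
        rw [(hc (i + 1) (by omega)).eq_of_tgt (E.d i (i + 1)) 0]; simp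
      haveI := (hE i).1
      haveI := (hE i).2
      exact ⟨Module.Projective.of_equiv (LinearEquiv.ofTop _ htop).symm,
        Module.Finite.equiv (LinearEquiv.ofTop _ htop).symm⟩
    | succ k ih =>
      intro i hbi hi
      obtain ⟨hP, hF⟩ := ih (i + 1) (by omega) (by omega)
      have hd : ∀ x, (E.d (i + 1) (i + 1 + 1)).hom ((E.d i (i + 1)).hom x) = 0 := fun x =>
        congr($(E.d_comp_d i (i + 1) (i + 1 + 1)).hom x)
      let g : E.X i →ₗ[R] LinearMap.ker (E.d (i + 1) (i + 1 + 1)).hom :=
        (E.d i (i + 1)).hom.codRestrict _ fun x => LinearMap.mem_ker.2 (hd x)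
      have hg : Function.Surjective g := fun ⟨y, hy⟩ => by
        have h := ((HomologicalComplex.exactAt_iff' E i (i + 1) (i + 1 + 1) (by simp) (by simp)).1
          (hex (i + 1) (by omega)))
        rw [ShortComplex.ShortExact.moduleCat_exact_iff_function_exact] at h
        obtain ⟨x, hx⟩ := (h y).1 (LinearMap.mem_ker.1 hy)
        exact ⟨x, Subtype.ext hx⟩
      obtain ⟨s, hs⟩ := Module.projective_lifting_property g LinearMap.id hg
      haveI := (hE i).1
      haveI := (hE i).2
      let p : E.X i →ₗ[R] LinearMap.ker (E.d i (i + 1)).hom :=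
        (LinearMap.id - s ∘ₗ g).codRestrict _ fun x => by
          rw [LinearMap.mem_ker]
          have : g (x - s (g x)) = 0 := by
            rw [map_sub, ← LinearMap.comp_apply g s, hs, LinearMap.id_apply, sub_self]
          exact congrArg Subtype.val this
      have hp : p ∘ₗ (LinearMap.ker (E.d i (i + 1)).hom).subtype = LinearMap.id :=
        LinearMap.ext fun x => Subtype.ext (by
          show (x : E.X i) - s (g x) = x
          rw [show g (x : E.X i) = 0 from Subtype.ext (LinearMap.mem_ker.1 x.2), map_zero, sub_zero])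
      exact ⟨Module.Projective.of_split _ p hp,
        Module.Finite.of_surjective p fun x => ⟨_, LinearMap.congr_fun hp x⟩⟩
  exact ⟨(key (c - b).toNat b le_rfl (by omega)).2, key⟩

lemma finite_homology_of_ker (E : DRing.Cx R) (i : ℤ)
    (h : Module.Finite R (LinearMap.ker (E.d i (i + 1)).hom)) :
    Module.Finite R (E.homology i) := by
  let S := E.sc' (i - 1) i (i + 1)
  let e : E.homology i ≅ S.homology :=
    ShortComplex.homologyMapIso (E.isoSc' (i - 1) i (i + 1) (by simp) (by simp))
  haveI : Module.Finite R S.moduleCatLeftHomologyData.H :=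
    haveI : Module.Finite R (LinearMap.ker S.g.hom) := h
    Module.Finite.of_surjective (LinearMap.range S.moduleCatToCycles).mkQ
      (Submodule.mkQ_surjective _)
  exact Module.Finite.equiv (e ≪≫ S.moduleCatLeftHomologyData.homologyIso).toLinearEquiv.symm

/-- The top cohomology of a pseudo-coherent object is finite. -/
theorem finite_top {m b : ℤ} {K : Dual.D R} (hK : DRing.IsPseudoCoherent R m K) (hmb : m ≤ b)
    (hb : ∀ i, b < i → Subsingleton (Dual.HD R K i)) : Module.Finite R (Dual.HD R K b) := by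
  obtain ⟨E, α, ⟨a, c, hE, hF⟩, hα⟩ := pc_iff.1 hK
  have hex : ∀ i, b < i → E.ExactAt i := fun i hi => by
    rw [HomologicalComplex.exactAt_iff_isZero_homology]
    refine IsZero.of_iso ?_ ((DerivedCategory.homologyFunctorFactors (ModuleCat.{u} R) i).app E).symm
    haveI := hb i hi
    exact ModuleCat.isZero_of_iff_subsingleton.2 (hα.2 i (by omega)).subsingleton
  have hH := finite_homology_of_ker E b
    (finite_ker_of_exact E b c (fun i hi => hE i (Or.inr hi)) hF hex).1
  haveI : Module.Finite R (Dual.HD R (DRing.toD E) b) :=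
    @Module.Finite.equiv _ _ _ _ _ _ _ _ hH
      ((DerivedCategory.homologyFunctorFactors (ModuleCat.{u} R) b).app E).toLinearEquiv.symm
  exact Module.Finite.of_surjective _ (hα.1 b hmb)

/-- A triangle `R^n[-b] ⟶ K ⟶ C`, surjective on `H^b`. -/
lemma exists_attach (K : Dual.D R) (b : ℤ) (hb : ∀ i, b < i → Subsingleton (Dual.HD R K i))
    [Module.Finite R (Dual.HD R K b)] :
    ∃ (n : ℕ) (C : Dual.D R) (f : DRing.toD (freeAt (R := R) n b) ⟶ K) (g : K ⟶ C)
      (h : C ⟶ (DRing.toD (freeAt (R := R) n b))⟦(1 : ℤ)⟧),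
      Triangle.mk f g h ∈ (distTriang (Dual.D R)) ∧ Function.Surjective (hm b f) ∧
        (∀ i, b ≤ i → Subsingleton (Dual.HD R C i)) ∧
        ∀ m, DRing.IsPseudoCoherent R m K ↔ DRing.IsPseudoCoherent R m C := by
  obtain ⟨n, f, hf⟩ := exists_map_freeAt K b
  obtain ⟨C, g, h, hT⟩ := distinguished_cocone_triangle f
  refine ⟨n, C, f, g, h, hT, hf, fun i hi => ?_, fun m => ⟨fun hK => ?_, fun hC => ?_⟩⟩
  · rcases hi.lt_or_eq with hi | rfl
    · exact subsingleton₃ (Triangle.mk f g h) hT i (i + 1) rfl
        (subsingleton_HD_freeAt n b _ (by omega)) (hb i hi)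
    · refine (subsingleton₃_iff (Triangle.mk f g h) hT b (b + 1) rfl).2 ⟨hf, fun x y _ => ?_⟩
      exact @Subsingleton.elim _ (subsingleton_HD_freeAt n b _ (by omega)) x y
  · exact pc_obj₃ (Triangle.mk f g h) hT (pc_toD_of_isFFCx (isFFCx_freeAt n b) _) hK
  · exact pc_obj₂ (Triangle.mk f g h) hT (pc_toD_of_isFFCx (isFFCx_freeAt n b) _) hC

lemma bounded_of_pc' {m : ℤ} {K : Dual.D R} (hK : DRing.IsPseudoCoherent R m K) :
    ∃ N : ℕ, ∀ i, m + N ≤ i → Subsingleton (Dual.HD R K i) := by
  obtain ⟨b, hb, h⟩ := exists_bound hK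
  exact ⟨(b + 1 - m).toNat, fun i hi => h i (by omega)⟩

/-- The top cohomology of a retract of a pseudo-coherent object is finite. -/
lemma finite_of_retract_top {m b : ℤ} (hmb : m ≤ b) : ∀ (k : ℕ) {K X : Dual.D R} (i : K ⟶ X)
    (r : X ⟶ K), IsIso (i ≫ r) → DRing.IsPseudoCoherent R m X →
    (∀ j, b < j → Subsingleton (Dual.HD R K j)) →
    (∀ j, b + k < j → Subsingleton (Dual.HD R X j)) → Module.Finite R (Dual.HD R K b)
  | 0, K, X, i, r, hir, hX, _, hvan => by
    haveI := finite_top hX hmb fun j hj => hvan j (by omega)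
    refine Module.Finite.of_surjective (hm b r) ?_
    have := (bijective_hm_of_isIso (R := R) b (i ≫ r)).2
    rw [hm_comp, LinearMap.coe_comp] at this
    exact this.of_comp
  | k + 1, K, X, i, r, hir, hX, hb, hvan => by
    haveI : Module.Finite R (Dual.HD R X (b + (k + 1 : ℕ))) :=
      finite_top hX (by omega) fun j hj => hvan j hj
    obtain ⟨n, C, f, g, h, hT, -, hC, hpc⟩ := exists_attach X (b + (k + 1 : ℕ)) fun j hj => hvan j hj
    obtain ⟨a, c, hz, hF⟩ := isFFCx_freeAt (R := R) n (b + (k + 1 : ℕ))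
    have h0 : f ≫ r = 0 := hom_eq_zero (n := b + (k + 1 : ℕ)) hF (fun j hj =>
        HomologicalComplex.isZero_single_obj_X _ _ _ _ (by omega)) c (fun j hj => hz j (Or.inr hj))
      (fun j hj => hb j (by omega)) _
    obtain ⟨r', hr'⟩ := Triangle.yoneda_exact₂ (Triangle.mk f g h) hT r h0
    have e : (i ≫ g) ≫ r' = i ≫ r := (Category.assoc _ _ _).trans (congrArg (i ≫ ·) hr'.symm)
    exact finite_of_retract_top hmb k (i ≫ g) r' (by rw [e]; exact hir)
      ((hpc m).1 hX) hb fun j hj => hC j (by omega)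

/-- Retracts of pseudo-coherent objects. -/
theorem pc_of_retract : ∀ (N : ℕ) {m : ℤ} {K X : Dual.D R} (i : K ⟶ X) (r : X ⟶ K),
    IsIso (i ≫ r) → (∀ j, m + N ≤ j → Subsingleton (Dual.HD R K j)) →
    DRing.IsPseudoCoherent R m X → DRing.IsPseudoCoherent R m K
  | 0, m, K, X, _, _, _, hb, _ => pc_of_vanish fun j hj => hb j (by omega)
  | N + 1, m, K, X, i, r, hir, hb, hX => by
    haveI : Module.Finite R (Dual.HD R K (m + N)) := by
      obtain ⟨b', hb', hvan⟩ := exists_bound hX
      exact finite_of_retract_top (by omega) (b' - (m + N)).toNat i r hir hX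
        (fun j hj => hb j (by omega)) fun j hj => hvan j (by omega)
    obtain ⟨n, C, f, g, h, hT, -, hC, -⟩ := exists_attach K (m + N) fun j hj => hb j (by omega)
    obtain ⟨C', g', h', hT'⟩ := distinguished_cocone_triangle (f ≫ i)
    haveI := hir
    obtain ⟨u, hu⟩ : ∃ u : X ⟶ K, i ≫ u = 𝟙 K :=
      ⟨r ≫ inv (i ≫ r), by rw [← Category.assoc, IsIso.hom_inv_id]⟩
    let φ : Triangle.mk f g h ⟶ Triangle.mk (f ≫ i) g' h' :=
      completeDistinguishedTriangleMorphism _ _ hT hT' (𝟙 _) i (Category.id_comp _).symm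
    let ψ : Triangle.mk (f ≫ i) g' h' ⟶ Triangle.mk f g h :=
      completeDistinguishedTriangleMorphism _ _ hT' hT (𝟙 _) u
        (((Category.assoc _ _ _).trans (congrArg (f ≫ ·) hu)).trans
          ((Category.comp_id f).trans (Category.id_comp f).symm))
    have : IsIso (φ ≫ ψ).hom₃ := by
      refine isIso₃_of_isIso₁₂ _ hT hT ?_ ?_
      · show IsIso (𝟙 _ ≫ 𝟙 (DRing.toD (freeAt (R := R) n (m + N))))
        infer_instance
      · show IsIso (i ≫ u)
        rw [hu]
        infer_instance
    refine pc_of_iso (Iso.refl _) ?_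
    refine (pc_obj₂ (Triangle.mk f g h) hT (pc_toD_of_isFFCx (isFFCx_freeAt n _) _) ?_)
    exact pc_of_retract N φ.hom₃ ψ.hom₃ this (fun j hj => hC j (by omega))
      (pc_obj₃ (Triangle.mk (f ≫ i) g' h') hT' (pc_toD_of_isFFCx (isFFCx_freeAt n _) _) hX)

end Groth.Agent.H4DR.PCoh
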