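import Groth.Agent.H4DR.PCoh.Attach
import Mathlib.Algebra.Homology.HomotopyCategory.HomComplexSingle
import Mathlib.CategoryTheory.Limits.Constructions.EventuallyConstant
import Mathlib.CategoryTheory.Functor.OfSequence

/-!
# An object which is `m`-pseudo-coherent for every `m` is a bounded above complex of finite free modules
-/

set_option autoImplicit false

universe u

open CategoryTheory CategoryTheory.Limits Pretriangulated CochainComplex CochainComplex.HomComplex
open Groth.Agent.H16Derived
open scoped ZeroObject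

attribute [local instance] HasDerivedCategory.standard

namespace Groth.Agent.H4DR.PCoh

variable {R : Type u} [CommRing R] (L : DRing.Cx R) (b : ℤ)

/-- A stage: a complex in degrees `[n, b]` of finite free modules with a map to `L` with cone exact
from degree `n` on. -/
structure Stage (n : ℤ) where
  E : DRing.Cx R
  α : E ⟶ L
  zero : ∀ i, (i < n ∨ b < i) → IsZero (E.X i)
  ff : DRing.TermwiseFiniteFree E
  exact : ∀ i, n ≤ i → (mappingCone α).ExactAt i

variable {L b}

lemma Stage.isFFCx {n : ℤ} (S : Stage L b n) : IsFFCx S.E := ⟨n, b, S.zero, S.ff⟩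

lemma Stage.pc {n : ℤ} (S : Stage L b n) (hL : DRing.IsPseudoCoherent R (n - 1) (DRing.toD L)) :
    DRing.IsPseudoCoherent R (n - 1) (DRing.toD (mappingCone S.α)) :=
  pc_obj₃ (DerivedCategory.Q.mapTriangle.obj (mappingCone.triangle S.α))
    ((DerivedCategory.mem_distTriang_iff _).2 ⟨_, _, S.α, ⟨Iso.refl _⟩⟩)
    (pc_toD_of_isFFCx S.isFFCx _) hL

/-- Finitely many cycles of degree `n - 1` of the cone generate its cohomology. -/
lemma Stage.exists_gens {n : ℤ} (S : Stage L b n)
    (hL : DRing.IsPseudoCoherent R (n - 1) (DRing.toD L)) :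
    ∃ (r : ℕ) (c : ModuleCat.of R (Fin r → R) ⟶ (mappingCone S.α).X (n - 1)),
      c ≫ (mappingCone S.α).d (n - 1) n = 0 ∧
      ∀ z, ((mappingCone S.α).d (n - 1) n).hom z = 0 →
        ∃ v u, z = c.hom v + ((mappingCone S.α).d (n - 1 - 1) (n - 1)).hom u := by
  let C := mappingCone S.α
  have hfin : Module.Finite R (Dual.HD R (DRing.toD C) (n - 1)) :=
    finite_top (S.pc hL) le_rfl fun i hi => ModuleCat.subsingleton_of_isZero
      (IsZero.of_iso (S.exact i (by omega)).isZero_homology
        ((DerivedCategory.homologyFunctorFactors (ModuleCat.{u} R) i).app C))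
  let T := C.sc' (n - 1 - 1) (n - 1) n
  let e : C.homology (n - 1) ≅ T.moduleCatLeftHomologyData.H :=
    ShortComplex.homologyMapIso (C.isoSc' (n - 1 - 1) (n - 1) n (by simp) (by simp)) ≪≫
      T.moduleCatLeftHomologyData.homologyIso
  haveI hQ : Module.Finite R (LinearMap.ker T.g.hom ⧸ LinearMap.range T.moduleCatToCycles) :=
    @Module.Finite.equiv _ _ _ _ _ _ _ _ hfin
      (((DerivedCategory.homologyFunctorFactors (ModuleCat.{u} R) (n - 1)).app C) ≪≫ e).toLinearEquiv
  obtain ⟨r, p, hp⟩ :=
    Module.Finite.exists_fin' R (LinearMap.ker T.g.hom ⧸ LinearMap.range T.moduleCatToCycles)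
  obtain ⟨p', hp'⟩ := Module.projective_lifting_property
    (LinearMap.range T.moduleCatToCycles).mkQ p (Submodule.mkQ_surjective _)
  refine ⟨r, ModuleCat.ofHom ((LinearMap.ker T.g.hom).subtype ∘ₗ p'),
    ModuleCat.hom_ext (LinearMap.ext fun v => LinearMap.mem_ker.1 (p' v).2), fun z hz => ?_⟩
  obtain ⟨v, hv⟩ := hp (Submodule.Quotient.mk ⟨z, LinearMap.mem_ker.2 hz⟩)
  rw [← hp'] at hv
  obtain ⟨u, hu⟩ := (Submodule.Quotient.eq _).1 hv.symm
  refine ⟨v, u, ?_⟩
  have h := congrArg Subtype.val hu
  rw [AddSubgroupClass.coe_sub] at h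
  show (z : T.X₂) = ((p' v : LinearMap.ker T.g.hom) : T.X₂) + T.f.hom u
  rw [show T.f.hom u = (T.moduleCatToCycles u : T.X₂) from rfl, h]
  exact (add_sub_cancel _ _).symm

/-- The new boundary in the cone of the next stage. -/
lemma inl_inl_d {G E L : DRing.Cx R} (g : G ⟶ E) (α : E ⟶ L) (β : Cochain G L (-1))
    (hβ : δ (-1) 0 β = Cochain.ofHom (g ≫ α)) {F : ModuleCat.{u} R} (n : ℤ) (u : F ⟶ G.X n)
    (hu : u ≫ G.d n (n + 1) = 0) (c : F ⟶ (mappingCone α).X (n - 1)) (y : F ⟶ L.X (n - 1))
    (x : F ⟶ E.X n) (hx : c ≫ (mappingCone.fst α).1.v (n - 1) n (by omega) = x)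
    (hy : c ≫ (mappingCone.snd α).v (n - 1) (n - 1) (add_zero _) = y)
    (hug : u ≫ g.f n = -x) (huβ : u ≫ β.v n (n - 1) (by omega) = y) :
    (u ≫ (mappingCone.inl g).v n (n - 1) (by omega) ≫
        (mappingCone.inl (mappingCone.desc g β α hβ)).v (n - 1) (n - 1 - 1) (by omega)) ≫
      (mappingCone (mappingCone.desc g β α hβ)).d (n - 1 - 1) (n - 1) =
    c ≫ (mappingCone.map α (mappingCone.desc g β α hβ) (mappingCone.inr g) (𝟙 L)
      (by rw [Category.comp_id, mappingCone.inr_desc])).f (n - 1) := by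
  have hid := mappingCone.id_X α (n - 1) n (by omega)
  have hc : c = x ≫ (mappingCone.inl α).v n (n - 1) (by omega) + y ≫ (mappingCone.inr α).f (n - 1) := by
    rw [← hx, ← hy, Category.assoc, Category.assoc, ← Preadditive.comp_add, hid, Category.comp_id]
  rw [hc, Category.assoc, Category.assoc,
    mappingCone.inl_v_d (mappingCone.desc g β α hβ) (n - 1) (n - 1 - 1) n (by omega) (by omega),
    Preadditive.comp_sub, Preadditive.comp_sub, Preadditive.add_comp, Category.assoc, Category.assoc,
    mappingCone.inl_v_desc_f_assoc]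
  erw [← Category.assoc ((mappingCone.inl g).v n (n - 1) _) ((mappingCone g).d (n - 1) n)]
  rw [mappingCone.inl_v_d g n (n - 1) (n + 1) (by omega) (by omega)]
  simp only [mappingCone.map, mappingCone.inl_v_desc_f, mappingCone.inr_f_desc_f,
    HomologicalComplex.comp_f, HomologicalComplex.id_f, Category.id_comp,
    Cochain.comp_zero_cochain_v, Cochain.ofHom_v, Cochain.zero_cochain_comp_v]
  rw [Preadditive.sub_comp, Preadditive.comp_sub, Category.assoc, Category.assoc, reassoc_of% hu,
    zero_comp, sub_zero, reassoc_of% huβ, reassoc_of% hug, Preadditive.neg_comp, sub_neg_eq_add]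
  exact add_comm _ _

/-- One more degree. -/
theorem Stage.exists_next {n : ℤ} (hn : n ≤ b + 1) (S : Stage L b n)
    (hL : DRing.IsPseudoCoherent R (n - 1) (DRing.toD L)) :
    ∃ (S' : Stage L b (n - 1)) (ι : S.E ⟶ S'.E), ι ≫ S'.α = S.α ∧
      ∀ i, n ≤ i → IsIso (ι.f i) := by
  obtain ⟨r, c, hc, hgen⟩ := S.exists_gens hL
  set x : ModuleCat.of R (Fin r → R) ⟶ S.E.X n := c ≫ (mappingCone.fst S.α).1.v (n - 1) n (by omega) with hx
  set y : ModuleCat.of R (Fin r → R) ⟶ L.X (n - 1) := c ≫ (mappingCone.snd S.α).v (n - 1) (n - 1) (add_zero _) with hy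
  have hxd : x ≫ S.E.d n (n + 1) = 0 := by
    have := congrArg (· ≫ (mappingCone.fst S.α).1.v n (n + 1) rfl) hc
    simp only [Category.assoc, zero_comp] at this
    rw [mappingCone.d_fst_v S.α (n - 1) n (n + 1) (by omega) rfl] at this
    rw [hx, Category.assoc]
    simpa using this
  have hxy : x ≫ S.α.f n + y ≫ L.d (n - 1) n = 0 := by
    have := congrArg (· ≫ (mappingCone.snd S.α).v n n (add_zero _)) hc
    simp only [Category.assoc, zero_comp] at this
    rw [mappingCone.d_snd_v S.α (n - 1) n (by omega), Preadditive.comp_add] at this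
    rw [hx, hy, Category.assoc, Category.assoc]
    exact this
  let F : ModuleCat.{u} R := ModuleCat.of R (Fin r → R)
  let G : DRing.Cx R := (CochainComplex.singleFunctor (ModuleCat.{u} R) n).obj F
  let g : G ⟶ S.E := HomologicalComplex.mkHomFromSingle (-x) fun k hk => by
    obtain rfl : n + 1 = k := hk
    rw [Preadditive.neg_comp, hxd, neg_zero]
  have hgf : g.f n = (HomologicalComplex.singleObjXSelf (ComplexShape.up ℤ) n F).hom ≫ (-x) :=
    HomologicalComplex.mkHomFromSingle_f _ _
  let β : Cochain G L (-1) := Cochain.fromSingleMk y (show n + -1 = n - 1 by omega)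
  have hβ : δ (-1) 0 β = Cochain.ofHom (g ≫ S.α) := by
    rw [Cochain.δ_fromSingleMk y _ 0 n (add_zero n)]
    refine Cochain.ext₀ _ _ fun p => ?_
    by_cases hp : p = n
    · subst hp
      rw [Cochain.fromSingleMk_v, Cochain.ofHom_v, HomologicalComplex.comp_f, hgf,
        eq_neg_of_add_eq_zero_right hxy]
      refine Eq.trans ?_ (Category.assoc _ _ _).symm
      exact congrArg _ (Preadditive.neg_comp _ _).symm
    · exact (HomologicalComplex.isZero_single_obj_X (ComplexShape.up ℤ) n F p hp).eq_of_src _ _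
  let E' : DRing.Cx R := mappingCone g
  let α' : E' ⟶ L := mappingCone.desc g β S.α hβ
  let ι : S.E ⟶ E' := mappingCone.inr g
  have hια : ι ≫ α' = S.α := mappingCone.inr_desc g β S.α hβ
  have hG : ∀ i, i ≠ n → IsZero (G.X i) := fun i hi => HomologicalComplex.isZero_single_obj_X _ _ _ _ hi
  have hιiso : ∀ i, i + 1 ≠ n → IsIso (ι.f i) := fun i hi =>
    ⟨(mappingCone.snd g).v i i (add_zero i), mappingCone.inr_f_snd_v g i, by
      have e := mappingCone.id_X g i (i + 1) rfl
      rw [(hG (i + 1) hi).eq_of_tgt ((mappingCone.fst g).1.v i (i + 1) rfl) 0, zero_comp,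
        zero_add] at e
      exact e⟩
  refine ⟨⟨E', α', fun i hi => ?_, fun i => ?_, ?_⟩, ι, hια, fun i hi => hιiso i (by omega)⟩
  · exact IsZero.of_iso ((biprod_isZero_iff _ _).2 ⟨hG (i + 1) (by omega), S.zero i (by omega)⟩)
      (HomologicalComplex.homotopyCofiber.XIsoBiprod g i (i + 1) rfl)
  · haveI := (S.ff i).1
    haveI := (S.ff i).2
    by_cases hi : i + 1 = n
    · subst hi
      haveI : Module.Finite R (G.X (i + 1)) := Module.Finite.equiv
        (HomologicalComplex.singleObjXSelf (ComplexShape.up ℤ) (i + 1) F).toLinearEquiv.symm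
      haveI : Module.Free R (G.X (i + 1)) := Module.Free.of_equiv
        (HomologicalComplex.singleObjXSelf (ComplexShape.up ℤ) (i + 1) F).toLinearEquiv.symm
      exact finiteFree_of_iso (HomologicalComplex.homotopyCofiber.XIsoBiprod g i (i + 1) rfl ≪≫
          ModuleCat.biprodIsoProd _ _).symm
        ⟨inferInstanceAs (Module.Finite R (G.X (i + 1) × S.E.X i)),
          inferInstanceAs (Module.Free R (G.X (i + 1) × S.E.X i))⟩
    · have := hιiso i hi
      exact finiteFree_of_iso (asIso (ι.f i)) ⟨inferInstance, inferInstance⟩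
  · intro i hi
    let Φ : mappingCone S.α ⟶ mappingCone α' :=
      mappingCone.map S.α α' ι (𝟙 L) (by rw [Category.comp_id, hια])
    have hΦ : ∀ j, n - 1 ≤ j → IsIso (Φ.f j) := fun j hj => by
      have := hιiso (j + 1) (by omega)
      refine ⟨(mappingCone.fst α').1.v j (j + 1) rfl ≫ inv (ι.f (j + 1)) ≫
          (mappingCone.inl S.α).v (j + 1) j (by omega) +
        (mappingCone.snd α').v j j (add_zero j) ≫ (mappingCone.inr S.α).f j, ?_, ?_⟩
      · simp [Φ, mappingCone.map, mappingCone.ext_from_iff S.α (j + 1) j rfl]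
      · simp [Φ, mappingCone.map, mappingCone.ext_from_iff α' (j + 1) j rfl]
    rw [HomologicalComplex.exactAt_iff' _ (i - 1) i (i + 1) (by simp) (by simp),
      ShortComplex.ShortExact.moduleCat_exact_iff_function_exact]
    intro z
    refine ⟨fun hz => ?_, ?_⟩
    · obtain ⟨z₀, rfl⟩ := ((ConcreteCategory.isIso_iff_bijective _).1 (hΦ i hi)).2 z
      have hz₀ : ((mappingCone S.α).d i (i + 1)).hom z₀ = 0 := by
        apply ((ConcreteCategory.isIso_iff_bijective _).1 (hΦ (i + 1) (by omega))).1
        rw [map_zero]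
        exact (congr($(Φ.comm i (i + 1)).hom z₀)).symm.trans hz
      rcases hi.lt_or_eq with hlt | rfl
      · have h := S.exact i (by omega)
        rw [HomologicalComplex.exactAt_iff' _ (i - 1) i (i + 1) (by simp) (by simp),
          ShortComplex.ShortExact.moduleCat_exact_iff_function_exact] at h
        obtain ⟨u, hu⟩ := (h z₀).1 hz₀
        exact ⟨(Φ.f (i - 1)).hom u,
          (congr($(Φ.comm (i - 1) i).hom u)).trans (congrArg (Φ.f i).hom hu)⟩
      · obtain ⟨v, u, huv⟩ := hgen z₀ (by
          have e : ∀ k, k = n → ((mappingCone S.α).d (n - 1) k).hom z₀ = 0 →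
            ((mappingCone S.α).d (n - 1) n).hom z₀ = 0 := by rintro k rfl h; exact h
          exact e _ (by omega) hz₀)
        let u' : F ⟶ G.X n := (HomologicalComplex.singleObjXSelf (ComplexShape.up ℤ) n F).inv
        let w : F ⟶ (mappingCone α').X (n - 1 - 1) :=
          u' ≫ (mappingCone.inl g).v n (n - 1) (by omega) ≫
            (mappingCone.inl α').v (n - 1) (n - 1 - 1) (by omega)
        have hw : w ≫ (mappingCone α').d (n - 1 - 1) (n - 1) = c ≫ Φ.f (n - 1) :=
          inl_inl_d g S.α β hβ n u' ((hG (n + 1) (by omega)).eq_of_tgt _ _) c y x hx.symm hy.symm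
            ((congrArg (u' ≫ ·) hgf).trans (Iso.inv_hom_id_assoc _ _))
            ((congrArg (u' ≫ ·) (Cochain.fromSingleMk_v y _)).trans (Iso.inv_hom_id_assoc _ _))
        refine ⟨w.hom v + (Φ.f (n - 1 - 1)).hom u, ?_⟩
        show ((mappingCone α').d (n - 1 - 1) (n - 1)).hom _ = _
        rw [map_add, huv, map_add]
        exact congrArg₂ (· + ·) (congr($(hw).hom v)) (congr($(Φ.comm (n - 1 - 1) (n - 1)).hom u))
    · rintro ⟨u, rfl⟩
      exact congr($((mappingCone α').d_comp_d (i - 1) i (i + 1)).hom u)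

/-- The empty stage. -/
noncomputable def Stage.base (hb : ∀ i, b < i → L.ExactAt i) : Stage L b (b + 1) where
  E := 0
  α := 0
  zero i _ := (HomologicalComplex.eval _ _ i).map_isZero (isZero_zero _)
  ff i := finiteFree_of_isZero ((HomologicalComplex.eval _ _ i).map_isZero (isZero_zero _))
  exact i hi := by
    have hz : ∀ j, IsZero ((0 : DRing.Cx R).X j) := fun j =>
      (HomologicalComplex.eval _ _ j).map_isZero (isZero_zero _)
    have : ∀ j, IsIso ((mappingCone.inr (0 : (0 : DRing.Cx R) ⟶ L)).f j) := fun j =>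
      ⟨(mappingCone.snd (0 : (0 : DRing.Cx R) ⟶ L)).v j j (add_zero j), mappingCone.inr_f_snd_v _ j, by
        have e := mappingCone.id_X (0 : (0 : DRing.Cx R) ⟶ L) j (j + 1) rfl
        rw [(hz (j + 1)).eq_of_tgt ((mappingCone.fst (0 : (0 : DRing.Cx R) ⟶ L)).1.v j (j + 1) rfl) 0,
          zero_comp, zero_add] at e
        exact e⟩
    have := HomologicalComplex.Hom.isIso_of_components (mappingCone.inr (0 : (0 : DRing.Cx R) ⟶ L))
    exact (hb i (by omega)).of_iso (asIso (mappingCone.inr (0 : (0 : DRing.Cx R) ⟶ L)))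

/-- An object which is `m`-pseudo-coherent for every `m` is pseudo-coherent. -/
theorem pc'_of_forall {K : Dual.D R} (h : ∀ m, DRing.IsPseudoCoherent R m K) :
    DRing.IsPseudoCoherent' R K := by
  let L := DerivedCategory.Q.objPreimage K
  let e : DerivedCategory.Q.obj L ≅ K := DerivedCategory.Q.objObjPreimageIso K
  have hL : ∀ m, DRing.IsPseudoCoherent R m (DRing.toD L) := fun m => pc_of_iso e.symm (h m)
  obtain ⟨b, -, hb⟩ := exists_bound (hL 0)
  have hb' : ∀ i, b < i → L.ExactAt i := fun i hi => by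
    rw [HomologicalComplex.exactAt_iff_isZero_homology]
    haveI := hb i hi
    exact (ModuleCat.isZero_of_iff_subsingleton.2 (hb i hi)).of_iso
      ((DerivedCategory.homologyFunctorFactors (ModuleCat.{u} R) i).app L).symm
  have hstep : ∀ (k : ℕ) (S : Σ' n : ℤ, PProd (PLift (n = b + 1 - k)) (Stage L b n)),
      ∃ (S' : Σ' n : ℤ, PProd (PLift (n = b + 1 - (k + 1 : ℕ))) (Stage L b n))
        (ι : S.2.2.E ⟶ S'.2.2.E), ι ≫ S'.2.2.α = S.2.2.α ∧
          ∀ i, b + 1 - k ≤ i → IsIso (ι.f i) := by
    rintro k ⟨n, ⟨hn⟩, S⟩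
    obtain ⟨S', ι, h₁, h₂⟩ := S.exists_next (by omega) (hL _)
    exact ⟨⟨n - 1, ⟨by omega⟩, S'⟩, ι, h₁, fun i hi => h₂ i (by omega)⟩
  choose next ι hι hιiso using hstep
  let St : ∀ k : ℕ, Σ' n : ℤ, PProd (PLift (n = b + 1 - k)) (Stage L b n) := fun k =>
    k.rec ⟨b + 1, ⟨by simp⟩, Stage.base hb'⟩ fun k S => next k S
  let F : ℕ ⥤ DRing.Cx R :=
    Functor.ofSequence (X := fun k => (St k).2.2.E) fun k => ι k (St k)
  let cc : Cocone F :=
    { pt := L
      ι := NatTrans.ofSequence (fun k => (St k).2.2.α) fun k => by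
        simp only [F, Functor.ofSequence_map_homOfLE_succ]
        exact (hι k (St k)).trans (Category.comp_id _).symm }
  let E := colimit F
  let α : E ⟶ L := colimit.desc F cc
  have hcst : ∀ (q : ℤ) (k : ℕ), b + 1 - k ≤ q → IsIso ((colimit.ι F k).f q) := by
    intro q k hk
    have hev : (F ⋙ HomologicalComplex.eval _ _ q).IsEventuallyConstantFrom k := by
      have hmap : ∀ (d : ℕ), IsIso ((F.map (homOfLE (Nat.le_add_right k d))).f q) := by
        intro d
        induction d with
        | zero =>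
          show IsIso ((F.map (𝟙 k)).f q)
          rw [F.map_id]
          exact inferInstanceAs (IsIso (𝟙 _))
        | succ d ih =>
          rw [show homOfLE (Nat.le_add_right k (d + 1)) =
              homOfLE (Nat.le_add_right k d) ≫ homOfLE (Nat.le_add_right (k + d) 1) from rfl,
            F.map_comp, HomologicalComplex.comp_f]
          have : IsIso ((F.map (homOfLE (Nat.le_add_right (k + d) 1))).f q) := by
            simp only [F, Functor.ofSequence_map_homOfLE_succ]
            exact hιiso (k + d) (St (k + d)) q (by push_cast; omega)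
          exact IsIso.comp_isIso
      intro j f
      obtain ⟨d, rfl⟩ := Nat.exists_eq_add_of_le (leOfHom f)
      exact hmap d
    exact hev.isIso_ι_of_isColimit
      (isColimitOfPreserves (HomologicalComplex.eval _ _ q) (colimit.isColimit F))
  have hterm : ∀ (i : ℤ), ∃ k : ℕ, IsIso ((colimit.ι F k).f i) := fun i =>
    ⟨(b + 1 - i).toNat, hcst i _ (by omega)⟩
  refine ⟨E, b, fun i hi => ?_, fun i => ?_, ⟨?_ ≪≫ e⟩⟩
  · obtain ⟨k, hk⟩ := hterm i
    exact ((St k).2.2.zero i (Or.inr hi)).of_iso (@asIso _ _ _ _ _ hk).symm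
  · obtain ⟨k, hk⟩ := hterm i
    exact finiteFree_of_iso (@asIso _ _ _ _ _ hk) ((St k).2.2.ff i)
  · have hqi : QuasiIso α := ⟨fun i => by
      let k := (b + 1 - i + 2).toNat
      have hk : (St k).1 ≤ i - 2 := by rw [(St k).2.1.down]; omega
      have hι1 : QuasiIsoAt (colimit.ι F k) i := by
        rw [quasiIsoAt_iff' _ (i - 1) i (i + 1) (by simp) (by simp)]
        have := hcst (i - 1) k (by omega)
        have := hcst i k (by omega)
        have := hcst (i + 1) k (by omega)
        let φ := (HomologicalComplex.shortComplexFunctor' (ModuleCat.{u} R) (ComplexShape.up ℤ)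
          (i - 1) i (i + 1)).map (colimit.ι F k)
        have : Epi φ.τ₁ := inferInstanceAs (Epi ((colimit.ι F k).f (i - 1)))
        have : IsIso φ.τ₂ := inferInstanceAs (IsIso ((colimit.ι F k).f i))
        have : Mono φ.τ₃ := inferInstanceAs (Mono ((colimit.ι F k).f (i + 1)))
        exact ShortComplex.quasiIso_of_epi_of_isIso_of_mono φ
      have hα1 : QuasiIsoAt (St k).2.2.α i := by
        rw [quasiIsoAt_iff_isIso_homologyMap]
        let T := DerivedCategory.Q.mapTriangle.obj (mappingCone.triangle (St k).2.2.α)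
        have hT : T ∈ distTriang _ :=
          (DerivedCategory.mem_distTriang_iff _).2 ⟨_, _, (St k).2.2.α, ⟨Iso.refl _⟩⟩
        have hg : Good (i - 1) T.mor₁ := (good_iff_cone _ T hT).2 fun j hj =>
          ModuleCat.subsingleton_of_isZero (IsZero.of_iso ((St k).2.2.exact j (by omega)).isZero_homology
            ((DerivedCategory.homologyFunctorFactors (ModuleCat.{u} R) j).app _))
        have : IsIso ((H R i).map (DerivedCategory.Q.map (St k).2.2.α)) :=
          (ConcreteCategory.isIso_iff_bijective _).2 ⟨hg.2 i (by omega), hg.1 i (by omega)⟩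
        exact ((MorphismProperty.isomorphisms _).arrow_mk_iso_iff
          (((Functor.mapArrowFunctor _ _).mapIso
            (DerivedCategory.homologyFunctorFactors (ModuleCat.{u} R) i)).app (Arrow.mk _))).1 this
      have : QuasiIsoAt (colimit.ι F k ≫ α) i := by
        rw [show colimit.ι F k ≫ α = (St k).2.2.α from colimit.ι_desc cc k]
        exact hα1
      exact quasiIsoAt_of_comp_left (colimit.ι F k) α i⟩
    exact asIso (DerivedCategory.Q.map α)

theorem pc_of_pc' {K : Dual.D R} (h : DRing.IsPseudoCoherent' R K) (m : ℤ) :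
    DRing.IsPseudoCoherent R m K := by
  obtain ⟨E, b, hb, hF, ⟨e⟩⟩ := h
  exact pc_iff.2 ⟨_, DerivedCategory.Q.map (KFlat.Brutal.ι E m) ≫ e.hom,
    (IsFFCx.geq hb hF m).1, (good_brutal E m).comp (Good.of_iso m e.hom)⟩

theorem pc'_iff {K : Dual.D R} :
    DRing.IsPseudoCoherent' R K ↔ ∀ m, DRing.IsPseudoCoherent R m K :=
  ⟨pc_of_pc', pc'_of_forall⟩

end Groth.Agent.H4DR.PCoh
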