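import Groth.Agent.H4DR.PCoh.Modules
import Mathlib.Algebra.Homology.DerivedCategory.ExactFunctor

/-!
# Pseudo-coherence and exact functors between module categories
-/

set_option autoImplicit false

universe u

open CategoryTheory CategoryTheory.Limits Pretriangulated
open Groth.Agent.H16Derived

attribute [local instance] HasDerivedCategory.standard

namespace Groth.Agent.H4DR.PCoh

variable {A B : Type u} [CommRing A] [CommRing B] (F : ModuleCat.{u} A ⥤ ModuleCat.{u} B)
  [F.Additive] [PreservesFiniteLimits F] [PreservesFiniteColimits F]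

/-- `H^i` commutes with `F`. -/
noncomputable def homologyMapIso (i : ℤ) :
    F.mapHomologicalComplex (ComplexShape.up ℤ) ⋙ HomologicalComplex.homologyFunctor _ _ i ≅
      HomologicalComplex.homologyFunctor _ _ i ⋙ F :=
  NatIso.ofComponents (fun K => (K.sc i).mapHomologyIso F) fun f =>
    ShortComplex.mapHomologyIso_hom_naturality
      (φ := (HomologicalComplex.shortComplexFunctor _ _ i).map f) F

/-- `H^i` of the image in `D(B)`. -/
noncomputable def hMap (i : ℤ) (K : Dual.D A) :
    (H B i).obj (F.mapDerivedCategory.obj K) ≅ F.obj ((H A i).obj K) :=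
  let e := DerivedCategory.Q.objObjPreimageIso K
  (H B i).mapIso (F.mapDerivedCategory.mapIso e.symm ≪≫ F.mapDerivedCategoryFactors.app _) ≪≫
    (DerivedCategory.homologyFunctorFactors (ModuleCat.{u} B) i).app _ ≪≫
    (homologyMapIso F i).app _ ≪≫
    F.mapIso ((DerivedCategory.homologyFunctorFactors (ModuleCat.{u} A) i).symm.app _ ≪≫
      (H A i).mapIso e)

/-- A natural version of `hMap` on `Q`. -/
noncomputable def hMapQ (i : ℤ) :
    DerivedCategory.Q ⋙ F.mapDerivedCategory ⋙ H B i ≅ DerivedCategory.Q ⋙ H A i ⋙ F :=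
  (Functor.associator _ _ _).symm ≪≫ Functor.isoWhiskerRight F.mapDerivedCategoryFactors (H B i) ≪≫
    Functor.associator _ _ _ ≪≫
    Functor.isoWhiskerLeft _ (DerivedCategory.homologyFunctorFactors (ModuleCat.{u} B) i) ≪≫
    homologyMapIso F i ≪≫
    Functor.isoWhiskerRight (DerivedCategory.homologyFunctorFactors (ModuleCat.{u} A) i).symm F ≪≫
    Functor.associator _ _ _

lemma subsingleton_map {i : ℤ} {K : Dual.D A} (h : Subsingleton (Dual.HD A K i)) :
    Subsingleton (Dual.HD B (F.mapDerivedCategory.obj K) i) :=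
  ModuleCat.subsingleton_of_isZero
    ((F.map_isZero (ModuleCat.isZero_of_iff_subsingleton.2 h)).of_iso (hMap F i K))

/-- `F` preserves good maps out of complexes. -/
lemma good_map {m : ℤ} {E : DRing.Cx A} {K : Dual.D A} {α : DRing.toD E ⟶ K} (hα : Good m α) :
    Good m (F.mapDerivedCategoryFactors.inv.app E ≫ F.mapDerivedCategory.map α) := by
  let e := DerivedCategory.Q.objObjPreimageIso K
  obtain ⟨T₃, g, h, hT⟩ := distinguished_cocone_triangle α
  have hc := (good_iff_cone m _ hT).1 hα
  have h1 : Good m (F.mapDerivedCategory.mapTriangle.obj (Triangle.mk α g h)).mor₁ :=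
    (good_iff_cone m _ (F.mapDerivedCategory.map_distinguished _ hT)).2 fun i hi =>
      subsingleton_map F (hc i hi)
  exact (Good.of_iso m _).comp h1

/-- The image of a pseudo-coherent object, once the images of free modules are pseudo-coherent. -/
theorem pc_map {m : ℤ}
    (hfree : ∀ (n : ℕ) (j : ℤ),
      DRing.IsPseudoCoherentModule B j (F.obj (ModuleCat.of A (Fin n → A))))
    {K : Dual.D A} (hK : DRing.IsPseudoCoherent A m K) :
    DRing.IsPseudoCoherent B m (F.mapDerivedCategory.obj K) := by
  obtain ⟨E, α, ⟨a, c, hE, hF⟩, hα⟩ := pc_iff.1 hK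
  have hE' : DRing.IsPseudoCoherent B m (DRing.toD ((F.mapHomologicalComplex (ComplexShape.up ℤ)).obj E)) := by
    refine pc_of_terms (c + 1 - m).toNat (fun i hi => F.map_isZero (hE i (Or.inr (by omega)))) fun i => ?_
    haveI := (hF i).1
    haveI := (hF i).2
    let bs := Module.Free.chooseBasis A (E.X i)
    haveI : Fintype (Module.Free.ChooseBasisIndex A (E.X i)) := inferInstance
    let e : (Fin (Fintype.card (Module.Free.ChooseBasisIndex A (E.X i))) → A) ≃ₗ[A] E.X i :=
      ((bs.reindex (Fintype.equivFin _)).equivFun).symm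
    exact pc_of_iso ((DerivedCategory.singleFunctor (ModuleCat.{u} B) 0).mapIso
      (F.mapIso e.toModuleIso)) (hfree _ _)
  obtain ⟨E', β, hE'', hβ⟩ := pc_iff.1 hE'
  exact pc_iff.2 ⟨E', β ≫ _, hE'', hβ.comp (good_map F hα)⟩

/-- Descent of pseudo-coherence along a faithful exact functor. -/
theorem pc_of_map
    (hfree : ∀ (n : ℕ) (j : ℤ),
      DRing.IsPseudoCoherentModule B j (F.obj (ModuleCat.of A (Fin n → A))))
    (hfin : ∀ M : ModuleCat.{u} A, Module.Finite B (F.obj M) → Module.Finite A M)
    (hzero : ∀ M : ModuleCat.{u} A, Subsingleton (F.obj M) → Subsingleton M) :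
    ∀ (N : ℕ) {m : ℤ} {K : Dual.D A},
      (∀ i, m + N ≤ i → Subsingleton (Dual.HD B (F.mapDerivedCategory.obj K) i)) →
      DRing.IsPseudoCoherent B m (F.mapDerivedCategory.obj K) → DRing.IsPseudoCoherent A m K
  | 0, m, K, hb, _ => pc_of_vanish fun i hi => hzero _ (haveI := hb i (by omega)
      (hMap F i K).toLinearEquiv.symm.injective.subsingleton)
  | N + 1, m, K, hb, hK => by
    have hv : ∀ i, m + N < i → Subsingleton (Dual.HD A K i) := fun i hi => hzero _ (
      haveI := hb i (by omega)
      (hMap F i K).toLinearEquiv.symm.injective.subsingleton)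
    haveI := finite_top hK (b := m + N) (by omega) fun i hi => hb i (by omega)
    haveI : Module.Finite A (Dual.HD A K (m + N)) :=
      hfin _ (Module.Finite.equiv (hMap F (m + N) K).toLinearEquiv)
    obtain ⟨n, C, f, g, h, hT, -, hC, hpc⟩ := exists_attach K (m + N) hv
    refine (hpc m).2 (pc_of_map hfree hfin hzero N (fun i hi => subsingleton_map F (hC i hi)) ?_)
    exact pc_obj₃ (F.mapDerivedCategory.mapTriangle.obj (Triangle.mk f g h))
      (F.mapDerivedCategory.map_distinguished _ hT)
      (pc_map F hfree (pc_toD_of_isFFCx (isFFCx_freeAt n _) _)) hK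

lemma exists_bound_map {m : ℤ} {K : Dual.D A}
    (hK : DRing.IsPseudoCoherent B m (F.mapDerivedCategory.obj K)) :
    ∃ N : ℕ, ∀ i, m + N ≤ i → Subsingleton (Dual.HD B (F.mapDerivedCategory.obj K) i) :=
  bounded_of_pc' hK

end Groth.Agent.H4DR.PCoh
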