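import Groth.Prelude.Def_DRing2
import Mathlib.Algebra.Homology.DerivedCategory.HomologySequence
import Mathlib.Algebra.Homology.DerivedCategory.TStructure
import Mathlib.Algebra.Homology.ShortComplex.ModuleCat
import Mathlib.Algebra.Category.ModuleCat.Monoidal.Basic

/-!
# The long exact cohomology sequence in `D(R)`, elementwise
-/

set_option autoImplicit false

universe u

open CategoryTheory CategoryTheory.Limits Pretriangulated

attribute [local instance] HasDerivedCategory.standard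

namespace Groth.Agent.H4DR.PCoh

variable {R : Type u} [CommRing R]

/-- `H^i`. -/
noncomputable abbrev H (R : Type u) [CommRing R] (i : ℤ) : Dual.D R ⥤ ModuleCat.{u} R :=
  DerivedCategory.homologyFunctor (ModuleCat.{u} R) i

/-- `H^i f` as a linear map. -/
noncomputable abbrev hm {K L : Dual.D R} (i : ℤ) (f : K ⟶ L) :
    Dual.HD R K i →ₗ[R] Dual.HD R L i :=
  ((H R i).map f).hom

lemma hm_comp {K L M : Dual.D R} (i : ℤ) (f : K ⟶ L) (g : L ⟶ M) :
    hm i (f ≫ g) = (hm i g).comp (hm i f) := by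
  rw [hm, Functor.map_comp, ModuleCat.hom_comp]

lemma hm_comp_apply {K L M : Dual.D R} (i : ℤ) (f : K ⟶ L) (g : L ⟶ M) (x : Dual.HD R K i) :
    hm i (f ≫ g) x = hm i g (hm i f x) := by rw [hm_comp]; rfl

@[simp] lemma hm_id (K : Dual.D R) (i : ℤ) : hm i (𝟙 K) = LinearMap.id := by
  rw [hm, CategoryTheory.Functor.map_id, ModuleCat.hom_id]

lemma bijective_hm_of_isIso {K L : Dual.D R} (i : ℤ) (f : K ⟶ L) [IsIso f] :
    Function.Bijective (hm i f) :=
  (ConcreteCategory.isIso_iff_bijective _).1 (inferInstanceAs (IsIso ((H R i).map f)))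

/-- Iso on `H^i`. -/
noncomputable def hEquiv {K L : Dual.D R} (i : ℤ) (e : K ≅ L) :
    Dual.HD R K i ≃ₗ[R] Dual.HD R L i :=
  ((H R i).mapIso e).toLinearEquiv

variable (T : Triangle (Dual.D R)) (hT : T ∈ distTriang _)

/-- The connecting map. -/
noncomputable def δl (i j : ℤ) (h : i + 1 = j) : Dual.HD R T.obj₃ i →ₗ[R] Dual.HD R T.obj₁ j :=
  (DerivedCategory.HomologySequence.δ T i j h).hom

include hT

lemma ex₂ (i : ℤ) : Function.Exact (hm i T.mor₁) (hm i T.mor₂) :=
  (ShortComplex.ShortExact.moduleCat_exact_iff_function_exact _).1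
    (DerivedCategory.HomologySequence.exact₂ T hT i)

lemma ex₃ (i j : ℤ) (h : i + 1 = j) : Function.Exact (hm i T.mor₂) (δl T i j h) :=
  (ShortComplex.ShortExact.moduleCat_exact_iff_function_exact _).1
    (DerivedCategory.HomologySequence.exact₃ T hT i j h)

lemma ex₁ (i j : ℤ) (h : i + 1 = j) : Function.Exact (δl T i j h) (hm j T.mor₁) :=
  (ShortComplex.ShortExact.moduleCat_exact_iff_function_exact _).1
    (DerivedCategory.HomologySequence.exact₁ T hT i j h)

lemma subsingleton₂ (i : ℤ) (h₁ : Subsingleton (Dual.HD R T.obj₁ i))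
    (h₃ : Subsingleton (Dual.HD R T.obj₃ i)) : Subsingleton (Dual.HD R T.obj₂ i) :=
  subsingleton_of_forall_eq 0 fun x => by
    obtain ⟨y, rfl⟩ := (ex₂ T hT i x).1 (Subsingleton.elim _ _)
    rw [Subsingleton.elim y 0, map_zero]

lemma subsingleton₃ (i j : ℤ) (h : i + 1 = j) (h₁ : Subsingleton (Dual.HD R T.obj₁ j))
    (h₂ : Subsingleton (Dual.HD R T.obj₂ i)) : Subsingleton (Dual.HD R T.obj₃ i) :=
  subsingleton_of_forall_eq 0 fun x => by
    obtain ⟨y, rfl⟩ := (ex₃ T hT i j h x).1 (Subsingleton.elim _ _)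
    rw [Subsingleton.elim y 0, map_zero]

lemma subsingleton₁ (i j : ℤ) (h : i + 1 = j) (h₃ : Subsingleton (Dual.HD R T.obj₃ i))
    (h₂ : Subsingleton (Dual.HD R T.obj₂ j)) : Subsingleton (Dual.HD R T.obj₁ j) :=
  subsingleton_of_forall_eq 0 fun x => by
    obtain ⟨y, rfl⟩ := (ex₁ T hT i j h x).1 (Subsingleton.elim _ _)
    rw [Subsingleton.elim y 0, map_zero]

lemma surjective₂_of_subsingleton (i j : ℤ) (h : i + 1 = j)
    (h₁ : Subsingleton (Dual.HD R T.obj₁ j)) : Function.Surjective (hm i T.mor₂) := fun x =>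
  (ex₃ T hT i j h x).1 (Subsingleton.elim _ _)

lemma injective₂_of_subsingleton (i : ℤ) (h₁ : Subsingleton (Dual.HD R T.obj₁ i)) :
    Function.Injective (hm i T.mor₂) := by
  refine (injective_iff_map_eq_zero (hm i T.mor₂)).2 fun x hx => ?_
  obtain ⟨y, rfl⟩ := (ex₂ T hT i x).1 hx
  rw [Subsingleton.elim y 0, map_zero]

lemma surjective₁_of_subsingleton (i : ℤ) (h₃ : Subsingleton (Dual.HD R T.obj₃ i)) :
    Function.Surjective (hm i T.mor₁) := fun x =>
  (ex₂ T hT i x).1 (Subsingleton.elim _ _)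

lemma injective₁_of_subsingleton (i j : ℤ) (h : i + 1 = j)
    (h₃ : Subsingleton (Dual.HD R T.obj₃ i)) : Function.Injective (hm j T.mor₁) := by
  refine (injective_iff_map_eq_zero (hm j T.mor₁)).2 fun x hx => ?_
  obtain ⟨y, rfl⟩ := (ex₁ T hT i j h x).1 hx
  rw [Subsingleton.elim y 0, map_zero]

/-- The cone has no cohomology in degree `i` iff epi at `i` and mono at `i + 1`. -/
lemma subsingleton₃_iff (i j : ℤ) (h : i + 1 = j) :
    Subsingleton (Dual.HD R T.obj₃ i) ↔
      Function.Surjective (hm i T.mor₁) ∧ Function.Injective (hm j T.mor₁) := by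
  refine ⟨fun h₃ => ⟨surjective₁_of_subsingleton T hT i h₃, injective₁_of_subsingleton T hT i j h h₃⟩,
    fun ⟨hs, hi⟩ => subsingleton_of_forall_eq 0 fun x => ?_⟩
  have : δl T i j h x = 0 := hi (by rw [map_zero]; exact (ex₁ T hT i j h).apply_apply_eq_zero x)
  obtain ⟨y, rfl⟩ := (ex₃ T hT i j h x).1 this
  obtain ⟨z, rfl⟩ := hs y
  exact (ex₂ T hT i).apply_apply_eq_zero z

/-- Four lemma along a morphism of triangles. -/
lemma surjective_hom₃ {T' : Triangle (Dual.D R)} (hT' : T' ∈ distTriang _) (φ : T ⟶ T') (i j : ℤ)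
    (h : i + 1 = j) (h₂ : Function.Surjective (hm i φ.hom₂))
    (h₁ : Function.Surjective (hm j φ.hom₁)) (h₂' : Function.Injective (hm j φ.hom₂)) :
    Function.Surjective (hm i φ.hom₃) := by
  have cδ : ∀ x, δl T' i j h (hm i φ.hom₃ x) = hm j φ.hom₁ (δl T i j h x) := fun x => by
    have e : (H R i).map φ.hom₃ ≫ DerivedCategory.HomologySequence.δ T' i j h =
        DerivedCategory.HomologySequence.δ T i j h ≫ (H R j).map φ.hom₁ :=
      (DerivedCategory.homologyFunctor (ModuleCat.{u} R) 0).homologySequenceδ_naturality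
        T T' φ i j h
    exact congr($(e).hom x)
  intro z
  obtain ⟨e, he⟩ := h₁ (δl T' i j h z)
  obtain ⟨w, hw⟩ := (ex₁ T hT i j h e).1 (h₂' (by
    rw [map_zero, ← hm_comp_apply, φ.comm₁, hm_comp_apply, he,
      (ex₁ T' hT' i j h).apply_apply_eq_zero]))
  obtain ⟨y, hy⟩ := (ex₃ T' hT' i j h (z - hm i φ.hom₃ w)).1 (by
    rw [map_sub, cδ, hw, he, sub_self])
  obtain ⟨y', rfl⟩ := h₂ y
  refine ⟨w + hm i T.mor₂ y', ?_⟩
  rw [map_add, ← hm_comp_apply, φ.comm₂, hm_comp_apply, hy, add_sub_cancel]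

lemma injective_hom₃ {T' : Triangle (Dual.D R)} (hT' : T' ∈ distTriang _) (φ : T ⟶ T') (i j : ℤ)
    (h : i + 1 = j) (h₁' : Function.Surjective (hm i φ.hom₁))
    (h₂ : Function.Injective (hm i φ.hom₂)) (h₁ : Function.Injective (hm j φ.hom₁)) :
    Function.Injective (hm i φ.hom₃) := by
  refine (injective_iff_map_eq_zero (hm i φ.hom₃)).2 fun x hx => ?_
  have cδ : hm j φ.hom₁ (δl T i j h x) = δl T' i j h (hm i φ.hom₃ x) := by
    have e : (H R i).map φ.hom₃ ≫ DerivedCategory.HomologySequence.δ T' i j h =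
        DerivedCategory.HomologySequence.δ T i j h ≫ (H R j).map φ.hom₁ :=
      (DerivedCategory.homologyFunctor (ModuleCat.{u} R) 0).homologySequenceδ_naturality
        T T' φ i j h
    exact congr($(e.symm).hom x)
  obtain ⟨y, rfl⟩ := (ex₃ T hT i j h x).1 (h₁ (by rw [cδ, hx, map_zero, map_zero]))
  obtain ⟨e', he'⟩ := (ex₂ T' hT' i (hm i φ.hom₂ y)).1 (by
    rw [← hm_comp_apply, ← φ.comm₂, hm_comp_apply, hx])
  obtain ⟨e, rfl⟩ := h₁' e'
  rw [← hm_comp_apply, ← φ.comm₁, hm_comp_apply] at he'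
  rw [← h₂ he']
  exact (ex₂ T hT i).apply_apply_eq_zero e

omit hT

/-- Cohomology of a shift. -/
noncomputable def hShift (K : Dual.D R) (n i i' : ℤ) (h : n + i = i') :
    Dual.HD R (K⟦n⟧) i ≃ₗ[R] Dual.HD R K i' :=
  (((DerivedCategory.homologyFunctor (ModuleCat.{u} R) 0).shiftIso n i i' h).app K).toLinearEquiv

lemma hm_shift {K L : Dual.D R} (f : K ⟶ L) (n i i' : ℤ) (h : n + i = i')
    (x : Dual.HD R (K⟦n⟧) i) :
    hShift L n i i' h (hm i (f⟦n⟧') x) = hm i' f (hShift K n i i' h x) :=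
  congr($(((DerivedCategory.homologyFunctor (ModuleCat.{u} R) 0).shiftIso n i i' h).hom.naturality f).hom x)

end Groth.Agent.H4DR.PCoh
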