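import Groth.Agent.H4DR.PCoh.Les
import Groth.Agent.H16Derived.ProjLift
import Groth.Agent.H16Derived.KFlat.BoundedAbove
import Mathlib.Algebra.Homology.DerivedCategory.KProjective
import Mathlib.Algebra.Homology.DerivedCategory.SingleTriangle
import Mathlib.Algebra.Category.ModuleCat.Projective
import Mathlib.Algebra.Category.ModuleCat.Biproducts
import Mathlib.Algebra.Homology.DerivedCategory.ShortExact
import Mathlib.RingTheory.Finiteness.Projective
import Mathlib.RingTheory.Finiteness.Prod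

/-!
# `m`-pseudo-coherent objects of `D(R)`: the basic calculus

Two out of three, shifts, retracts, and the induction from the top cohomology: if `H^i(K) = 0` for
`i > b ≥ m` then `K` is `m`-pseudo-coherent iff `H^b(K)` is finite and the cone of one (every) map
`R^n[-b] ⟶ K` surjective on `H^b` is `m`-pseudo-coherent.
-/

set_option autoImplicit false

universe u

open CategoryTheory CategoryTheory.Limits Pretriangulated
open Groth.Agent.H16Derived
open scoped ZeroObject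

attribute [local instance] HasDerivedCategory.standard

namespace Groth.Agent.H4DR.PCoh

variable {R : Type u} [CommRing R]

/-- Iso on `H^i` for `i > m`, epi on `H^m`. -/
def Good (m : ℤ) {X K : Dual.D R} (α : X ⟶ K) : Prop :=
  (∀ i, m ≤ i → Function.Surjective (hm i α)) ∧ ∀ i, m < i → Function.Injective (hm i α)

lemma Good.of_iso (m : ℤ) {X K : Dual.D R} (α : X ⟶ K) [IsIso α] : Good m α :=
  ⟨fun i _ => (bijective_hm_of_isIso i α).2, fun i _ => (bijective_hm_of_isIso i α).1⟩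

lemma Good.mono {m m' : ℤ} (h : m ≤ m') {X K : Dual.D R} {α : X ⟶ K} (hα : Good m α) :
    Good m' α :=
  ⟨fun i hi => hα.1 i (h.trans hi), fun i hi => hα.2 i (lt_of_le_of_lt h hi)⟩

lemma Good.comp {m : ℤ} {X Y Z : Dual.D R} {α : X ⟶ Y} {β : Y ⟶ Z} (hα : Good m α)
    (hβ : Good m β) : Good m (α ≫ β) := by
  refine ⟨fun i hi => ?_, fun i hi => ?_⟩
  · rw [hm_comp, LinearMap.coe_comp]; exact (hβ.1 i hi).comp (hα.1 i hi)
  · rw [hm_comp, LinearMap.coe_comp]; exact (hβ.2 i hi).comp (hα.2 i hi)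

lemma good_iff_isPseudoCoherentAux (m : ℤ) {X K : Dual.D R} (α : X ⟶ K) :
    Good m α ↔ (∀ i : ℤ, m < i → IsIso ((H R i).map α)) ∧ Epi ((H R m).map α) := by
  constructor
  · exact fun h => ⟨fun i hi => (ConcreteCategory.isIso_iff_bijective _).2 ⟨h.2 i hi, h.1 i hi.le⟩,
      (ModuleCat.epi_iff_surjective _).2 (h.1 m le_rfl)⟩
  · rintro ⟨h, h'⟩
    refine ⟨fun i hi => ?_, fun i hi => ((ConcreteCategory.isIso_iff_bijective _).1 (h i hi)).1⟩
    rcases hi.lt_or_eq with hi | rfl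
    · exact ((ConcreteCategory.isIso_iff_bijective _).1 (h i hi)).2
    · exact (ModuleCat.epi_iff_surjective _).1 h'

lemma good_iff_cone (m : ℤ) (T : Triangle (Dual.D R)) (hT : T ∈ distTriang _) :
    Good m T.mor₁ ↔ ∀ i, m ≤ i → Subsingleton (Dual.HD R T.obj₃ i) := by
  refine ⟨fun h i hi => (subsingleton₃_iff T hT i (i + 1) rfl).2 ⟨h.1 i hi, h.2 _ (by omega)⟩,
    fun h => ⟨fun i hi => ((subsingleton₃_iff T hT i (i + 1) rfl).1 (h i hi)).1, fun i hi => ?_⟩⟩
  exact ((subsingleton₃_iff T hT (i - 1) i (by omega)).1 (h _ (by omega))).2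

/-- A bounded complex of finite free modules. -/
def IsFFCx (E : DRing.Cx R) : Prop :=
  ∃ a b : ℤ, DRing.VanishesOutside E a b ∧ DRing.TermwiseFiniteFree E

lemma pc_iff {m : ℤ} {K : Dual.D R} :
    DRing.IsPseudoCoherent R m K ↔
      ∃ (E : DRing.Cx R) (α : DRing.toD E ⟶ K), IsFFCx E ∧ Good m α := by
  constructor
  · rintro ⟨E, a, b, α, h₁, h₂, h₃, h₄⟩
    exact ⟨E, α, ⟨a, b, h₁, h₂⟩, (good_iff_isPseudoCoherentAux m α).2 ⟨h₃, h₄⟩⟩
  · rintro ⟨E, α, ⟨a, b, h₁, h₂⟩, h⟩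
    obtain ⟨h₃, h₄⟩ := (good_iff_isPseudoCoherentAux m α).1 h
    exact ⟨E, a, b, α, h₁, h₂, h₃, h₄⟩

lemma pc_mono {m m' : ℤ} (h : m ≤ m') {K : Dual.D R} (hK : DRing.IsPseudoCoherent R m K) :
    DRing.IsPseudoCoherent R m' K := by
  obtain ⟨E, α, hE, hα⟩ := pc_iff.1 hK
  exact pc_iff.2 ⟨E, α, hE, hα.mono h⟩

lemma pc_of_iso {m : ℤ} {K L : Dual.D R} (e : K ≅ L) (hK : DRing.IsPseudoCoherent R m K) :
    DRing.IsPseudoCoherent R m L := by
  obtain ⟨E, α, hE, hα⟩ := pc_iff.1 hK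
  exact pc_iff.2 ⟨E, α ≫ e.hom, hE, hα.comp (Good.of_iso m e.hom)⟩

lemma pc_toD_of_isFFCx {E : DRing.Cx R} (hE : IsFFCx E) (m : ℤ) :
    DRing.IsPseudoCoherent R m (DRing.toD E) :=
  pc_iff.2 ⟨E, 𝟙 _, hE, Good.of_iso m _⟩

lemma finiteFree_of_iso {M N : ModuleCat.{u} R} (e : M ≅ N)
    (h : Module.Finite R M ∧ Module.Free R M) : Module.Finite R N ∧ Module.Free R N :=
  haveI := h.1
  haveI := h.2
  ⟨Module.Finite.equiv e.toLinearEquiv, Module.Free.of_equiv e.toLinearEquiv⟩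

lemma finiteFree_of_isZero {M : ModuleCat.{u} R} (h : IsZero M) :
    Module.Finite R M ∧ Module.Free R M :=
  haveI := ModuleCat.subsingleton_of_isZero h
  ⟨inferInstance, inferInstance⟩

lemma isFFCx_zero : IsFFCx (0 : DRing.Cx R) :=
  have h : ∀ i : ℤ, IsZero ((0 : DRing.Cx R).X i) := fun i =>
    (HomologicalComplex.eval _ _ i).map_isZero (isZero_zero _)
  ⟨0, 0, fun i _ => h i, fun i => finiteFree_of_isZero (h i)⟩

lemma pc_of_vanish {m : ℤ} {K : Dual.D R} (h : ∀ i, m ≤ i → Subsingleton (Dual.HD R K i)) :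
    DRing.IsPseudoCoherent R m K := by
  refine pc_iff.2 ⟨0, 0, isFFCx_zero, fun i hi => fun x => ⟨0, ?_⟩, fun i hi => ?_⟩
  · exact @Subsingleton.elim _ (h i hi) _ _
  · have : IsZero (DRing.toD (0 : DRing.Cx R)) := DerivedCategory.Q.map_isZero (isZero_zero _)
    have := ModuleCat.subsingleton_of_isZero ((H R i).map_isZero this)
    exact fun x y _ => Subsingleton.elim x y

lemma IsFFCx.shift {E : DRing.Cx R} (hE : IsFFCx E) (n : ℤ) : IsFFCx (E⟦n⟧) := by
  obtain ⟨a, b, h₁, h₂⟩ := hE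
  exact ⟨a - n, b - n, fun i hi => show IsZero (E.X (i + n)) from h₁ _ (by omega),
    fun i => h₂ (i + n)⟩

lemma pc_shift {m m' : ℤ} (n : ℤ) (h : n + m' = m) {K : Dual.D R}
    (hK : DRing.IsPseudoCoherent R m K) : DRing.IsPseudoCoherent R m' (K⟦n⟧) := by
  obtain ⟨E, α, hE, hα⟩ := pc_iff.1 hK
  refine pc_iff.2 ⟨E⟦n⟧, ((DerivedCategory.Q.commShiftIso n).app E).hom ≫ α⟦n⟧', hE.shift n,
    (Good.of_iso m' _).comp ⟨fun i hi x => ?_, fun i hi x y hxy => ?_⟩⟩
  · obtain ⟨y, hy⟩ := hα.1 (n + i) (by omega) (hShift K n i (n + i) rfl x)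
    refine ⟨(hShift (DRing.toD E) n i (n + i) rfl).symm y, (hShift K n i (n + i) rfl).injective ?_⟩
    rw [hm_shift, LinearEquiv.apply_symm_apply, hy]
  · have := congrArg (hShift K n i (n + i) rfl) hxy
    rw [hm_shift, hm_shift] at this
    exact (hShift (DRing.toD E) n i (n + i) rfl).injective (hα.2 (n + i) (by omega) this)

lemma pc_of_shift {m m' : ℤ} (n : ℤ) (h : n + m' = m) {K : Dual.D R}
    (hK : DRing.IsPseudoCoherent R m' (K⟦n⟧)) : DRing.IsPseudoCoherent R m K :=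
  pc_of_iso (shiftShiftNeg K n) (pc_shift (m' := m) (-n) (by omega) hK)

/-- A finite free complex in degrees `≥ n` has no maps to objects living in degrees `< n`. -/
lemma hom_eq_zero {E : DRing.Cx R} {n : ℤ} {C : Dual.D R} (hE : DRing.TermwiseFiniteFree E)
    (hn : ∀ i, i < n → IsZero (E.X i)) (b : ℤ) (hb : ∀ i, b < i → IsZero (E.X i))
    (hC : ∀ i, n ≤ i → Subsingleton (Dual.HD R C i)) (f : DRing.toD E ⟶ C) : f = 0 := by
  haveI : C.IsLE (n - 1) := (DerivedCategory.isLE_iff C (n - 1)).2 fun i hi =>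
    ModuleCat.isZero_of_iff_subsingleton.2 (hC i (by omega))
  obtain ⟨L, hL, ⟨e⟩⟩ := DerivedCategory.exists_iso_Q_obj_of_isLE C (n - 1)
  haveI : E.IsStrictlyLE b := (CochainComplex.isStrictlyLE_iff E b).2 hb
  haveI : ∀ i, Projective (E.X i) := fun i => by
    haveI := (hE i).2
    infer_instance
  haveI := CochainComplex.isKProjective_of_projective E b
  obtain ⟨g, hg⟩ := ProjLift.Q_map_surjective E L (f ≫ e.hom)
  have : g = 0 := HomologicalComplex.hom_ext _ _ fun i => by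
    rcases lt_or_ge i n with h | h
    · exact (hn i h).eq_of_src _ _
    · exact (CochainComplex.isZero_of_isStrictlyLE L (n - 1) i (by omega)).eq_of_tgt _ _
  rw [this, Functor.map_zero] at hg
  exact (cancel_mono e.hom).1 (hg.symm.trans zero_comp.symm)

/-- The brutal truncation of a complex is good. -/
lemma good_brutal (E : DRing.Cx R) (n : ℤ) :
    Good n (DerivedCategory.Q.map (H16Derived.KFlat.Brutal.ι E n)) := by
  let S := ShortComplex.mk (H16Derived.KFlat.Brutal.ι E n) _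
    (cokernel.condition (H16Derived.KFlat.Brutal.ι E n))
  have hS : S.ShortExact := H16Derived.KFlat.Brutal.shortExact E n
  refine (good_iff_cone n _ (DerivedCategory.triangleOfSES_distinguished hS)).2 fun i hi => ?_
  refine ModuleCat.subsingleton_of_isZero (IsZero.of_iso ?_
    ((DerivedCategory.homologyFunctorFactors (ModuleCat.{u} R) i).app _))
  exact ((HomologicalComplex.exactAt_iff _ _).2 (ShortComplex.exact_of_isZero_X₂ _
    (H16Derived.KFlat.Brutal.isZero_cokernel E n hi))).isZero_homology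

lemma IsFFCx.geq {E : DRing.Cx R} {b : ℤ} (hb : ∀ i, b < i → IsZero (E.X i))
    (hE : DRing.TermwiseFiniteFree E) (n : ℤ) :
    IsFFCx (H16Derived.KFlat.Brutal.geq E n) ∧
      (∀ i, i < n → IsZero ((H16Derived.KFlat.Brutal.geq E n).X i)) ∧
      ∀ i, b < i → IsZero ((H16Derived.KFlat.Brutal.geq E n).X i) := by
  have hb' : ∀ i, b < i → IsZero ((H16Derived.KFlat.Brutal.geq E n).X i) := fun i hi => by
    by_cases h : n ≤ i
    · have := H16Derived.KFlat.Brutal.isIso_ι_f E n h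
      exact (hb i hi).of_iso (asIso ((H16Derived.KFlat.Brutal.ι E n).f i))
    · exact H16Derived.KFlat.Brutal.isZero_geq E _ (by omega)
  refine ⟨⟨n, b, fun i hi => ?_, fun i => ?_⟩, fun i hi => H16Derived.KFlat.Brutal.isZero_geq E _ hi,
    hb'⟩
  · rcases hi with hi | hi
    · exact H16Derived.KFlat.Brutal.isZero_geq E _ hi
    · exact hb' i hi
  · by_cases h : n ≤ i
    · have := H16Derived.KFlat.Brutal.isIso_ι_f E n h
      exact finiteFree_of_iso (asIso ((H16Derived.KFlat.Brutal.ι E n).f i)).symm (hE i)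
    · exact finiteFree_of_isZero (H16Derived.KFlat.Brutal.isZero_geq E _ (by omega))

/-- Two out of three: the cone of an `(m+1)`-pseudo-coherent into an `m`-pseudo-coherent. -/
theorem pc_obj₃ {m : ℤ} (T : Triangle (Dual.D R)) (hT : T ∈ distTriang _)
    (h₁ : DRing.IsPseudoCoherent R (m + 1) T.obj₁) (h₂ : DRing.IsPseudoCoherent R m T.obj₂) :
    DRing.IsPseudoCoherent R m T.obj₃ := by
  obtain ⟨E₀, α₀, ⟨a₁, b₁, hE₁, hF₁⟩, hα₀⟩ := pc_iff.1 h₁
  obtain ⟨⟨a₁', b₁', hE₁', hF₁'⟩, hlow, hhigh⟩ :=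
    IsFFCx.geq (E := E₀) (b := b₁) (fun i hi => hE₁ i (Or.inr hi)) hF₁ (m + 1)
  set E := H16Derived.KFlat.Brutal.geq E₀ (m + 1)
  set α := DerivedCategory.Q.map (H16Derived.KFlat.Brutal.ι E₀ (m + 1)) ≫ α₀
  have hα : Good (m + 1) α := (good_brutal E₀ (m + 1)).comp hα₀
  obtain ⟨F, γ, ⟨a₂, b₂, hE₂, hF₂⟩, hγ⟩ := pc_iff.1 h₂
  obtain ⟨C, g, h, hTγ⟩ := distinguished_cocone_triangle γ
  have hC := (good_iff_cone m _ hTγ).1 hγ
  obtain ⟨β, hβ⟩ := Triangle.coyoneda_exact₂ _ hTγ (α ≫ T.mor₁)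
    (hom_eq_zero hF₁' hlow b₁ hhigh (fun i hi => hC i (by omega)) _)
  haveI : E.IsStrictlyLE b₁ := (CochainComplex.isStrictlyLE_iff E b₁).2 hhigh
  haveI : ∀ i, Projective (E.X i) := fun i => by
    haveI := (hF₁' i).2
    infer_instance
  haveI := CochainComplex.isKProjective_of_projective E b₁
  obtain ⟨b₀, hb₀⟩ := ProjLift.Q_map_surjective E F β
  have hW : IsFFCx (CochainComplex.mappingCone b₀) := by
    have hz : ∀ i, (i < min a₂ (a₁' - 1) ∨ max b₂ b₁' < i) →
        IsZero ((CochainComplex.mappingCone b₀).X i) := fun i hi => by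
      exact IsZero.of_iso ((biprod_isZero_iff _ _).2 ⟨hE₁' (i + 1) (by omega), hE₂ i (by omega)⟩)
        (HomologicalComplex.homotopyCofiber.XIsoBiprod b₀ i (i + 1) rfl)
    refine ⟨_, _, hz, fun i => ?_⟩
    let e : (CochainComplex.mappingCone b₀).X i ≅ E.X (i + 1) ⊞ F.X i :=
      HomologicalComplex.homotopyCofiber.XIsoBiprod b₀ i (i + 1) rfl
    haveI := (hF₁' (i + 1)).1
    haveI := (hF₁' (i + 1)).2
    haveI := (hF₂ i).1
    haveI := (hF₂ i).2
    let e' : (CochainComplex.mappingCone b₀).X i ≅ ModuleCat.of R (E.X (i + 1) × F.X i) :=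
      e ≪≫ ModuleCat.biprodIsoProd _ _
    exact finiteFree_of_iso e'.symm
      ⟨inferInstanceAs (Module.Finite R (E.X (i + 1) × F.X i)),
        inferInstanceAs (Module.Free R (E.X (i + 1) × F.X i))⟩
  let T' := DerivedCategory.Q.mapTriangle.obj (CochainComplex.mappingCone.triangle b₀)
  have hT' : T' ∈ distTriang _ :=
    (DerivedCategory.mem_distTriang_iff _).2 ⟨_, _, b₀, ⟨Iso.refl _⟩⟩
  have hcomm : T'.mor₁ ≫ γ = α ≫ T.mor₁ := by
    change DerivedCategory.Q.map b₀ ≫ γ = _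
    rw [hb₀]; exact hβ.symm
  let φ : T' ⟶ T := completeDistinguishedTriangleMorphism T' T hT' hT α γ hcomm
  refine pc_iff.2 ⟨CochainComplex.mappingCone b₀, φ.hom₃, hW, fun i hi => ?_, fun i hi => ?_⟩
  · exact surjective_hom₃ T' hT' hT φ i (i + 1) rfl (hγ.1 i hi) (hα.1 _ (by omega))
      (hγ.2 _ (by omega))
  · exact injective_hom₃ T' hT' hT φ i (i + 1) rfl (hα.1 i (by omega)) (hγ.2 i hi)
      (hα.2 _ (by omega))

theorem pc_obj₂ {m : ℤ} (T : Triangle (Dual.D R)) (hT : T ∈ distTriang _)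
    (h₁ : DRing.IsPseudoCoherent R m T.obj₁) (h₃ : DRing.IsPseudoCoherent R m T.obj₃) :
    DRing.IsPseudoCoherent R m T.obj₂ :=
  pc_obj₃ T.invRotate (inv_rot_of_distTriang _ hT) (pc_shift (-1) (by omega) h₃) h₁

theorem pc_obj₁ {m : ℤ} (T : Triangle (Dual.D R)) (hT : T ∈ distTriang _)
    (h₂ : DRing.IsPseudoCoherent R (m + 1) T.obj₂) (h₃ : DRing.IsPseudoCoherent R m T.obj₃) :
    DRing.IsPseudoCoherent R (m + 1) T.obj₁ :=
  pc_of_shift 1 (by omega) (pc_obj₃ T.rotate (rot_of_distTriang _ hT) h₂ h₃)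

/-- A pseudo-coherent object has bounded above cohomology. -/
lemma exists_bound {m : ℤ} {K : Dual.D R} (hK : DRing.IsPseudoCoherent R m K) :
    ∃ b, m ≤ b ∧ ∀ i, b < i → Subsingleton (Dual.HD R K i) := by
  obtain ⟨E, α, ⟨a, b, hE, -⟩, hα⟩ := pc_iff.1 hK
  refine ⟨max m b, le_max_left _ _, fun i hi => ?_⟩
  have hz : Subsingleton (Dual.HD R (DRing.toD E) i) := by
    refine ModuleCat.subsingleton_of_isZero (IsZero.of_iso ?_
      ((DerivedCategory.homologyFunctorFactors (ModuleCat.{u} R) i).app _))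
    exact ((HomologicalComplex.exactAt_iff _ _).2 (ShortComplex.exact_of_isZero_X₂ _
      (hE i (Or.inr (by omega))))).isZero_homology
  exact (hα.1 i (by omega)).subsingleton

end Groth.Agent.H4DR.PCoh
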